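import Groth.Agent.FlatMor2.Weighting.Applications
import Groth.Agent.FlatMor2.GeomFibreLqf
import Groth.Agent.EGA41Two.LocalCons
import Groth.Agent.S4599
import Groth.Agent.FlatMor2.EtaleFinite

/-!
# Weightings: constructibility of level sets, boundedness of fibre integrals
-/

set_option autoImplicit false

universe u

open CategoryTheory CategoryTheory.Limits AlgebraicGeometry Topology Filter TopologicalSpace

namespace Groth.FlatMor2

open Groth.SpectralTopology

variable {X Y : Scheme.{u}}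

lemma spectralSpace_of_isAffine (X : Scheme.{u}) [IsAffine X] : SpectralSpace X :=
  @SpectralSpace.mk X _ inferInstance inferInstance inferInstance inferInstance inferInstance

/-- A function on a scheme which is constant on constructible neighbourhoods, up to morphisms of
finite presentation, has locally constructible level sets. -/
theorem isLocallyConstructible_of_local (E : Set X)
    (h : ∀ x : X, ∃ (W : Scheme.{u}) (e : W ⟶ X) (w : W) (C : Set W), IsAffine W ∧
      LocallyOfFinitePresentation e ∧ IsOpen[constructibleTopology W] C ∧ w ∈ C ∧ e w = x ∧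
        ∀ c ∈ C, (e c ∈ E ↔ x ∈ E)) :
    IsLocallyConstructible E := by
  suffices key : ∀ F : Set X, (∀ x : X, ∃ (W : Scheme.{u}) (e : W ⟶ X) (w : W) (C : Set W), IsAffine W ∧
      LocallyOfFinitePresentation e ∧ IsOpen[constructibleTopology W] C ∧ w ∈ C ∧ e w = x ∧
        ∀ c ∈ C, (e c ∈ F ↔ x ∈ F)) → EGA41Two.LClosed F by
    refine EGA41Two.isLocallyConstructible_iff_lClosed.mpr ⟨key E h, key Eᶜ fun x => ?_⟩
    obtain ⟨W, e, w, C, hW, he, hC, hw, hx, hc⟩ := h x
    exact ⟨W, e, w, C, hW, he, hC, hw, hx, fun c hcC => not_congr (hc c hcC)⟩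
  intro F hF A hA
  have : IsAffine A.toScheme := hA
  have := spectralSpace_of_isAffine A.toScheme
  show IsClosed[constructibleTopology A.toScheme] (Subtype.val ⁻¹' F : Set A.toScheme)
  rw [← @isOpen_compl_iff _ _ (constructibleTopology A.toScheme),
    @isOpen_iff_forall_mem_open _ (constructibleTopology A.toScheme)]
  rintro ⟨x, hxA⟩ hxF
  obtain ⟨W, e, w, C, hW, he, hC, hw, hx, hc⟩ := hF x
  obtain ⟨W', hW', hwW', hle⟩ := exists_isAffineOpen_mem_and_subset (U := e ⁻¹ᵁ A)
    (show e w ∈ A from hx.symm ▸ hxA)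
  have : IsAffine W'.toScheme := hW'
  have := spectralSpace_of_isAffine W'.toScheme
  have := spectralSpace_of_isAffine W
  have hCW : IsOpen[constructibleTopology W'.toScheme] (W'.ι ⁻¹' C) :=
    @IsOpen.preimage _ _ (constructibleTopology W'.toScheme) (constructibleTopology W) _
      (continuous_ct W'.ι.isSpectralMap) _ hC
  obtain ⟨C', hC', hwC', hsub⟩ := EGA41Two.exists_isConstructible_mem_subset hCW
    (x := ⟨w, hwW'⟩) (show (W'.ι ⟨w, hwW'⟩) ∈ C from hw)
  let r := e.resLE A W' hle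
  have : IsAffineHom r := isAffineHom_of_isAffine _
  have hr : ∀ z, (r z).1 = e z.1 := fun z => congr($(Scheme.Hom.resLE_comp_ι e hle) z)
  refine ⟨r '' C', ?_, (isClopen_ct_of_isConstructible (r.isConstructible_image hC')).2,
    ⟨⟨w, hwW'⟩, hwC', Subtype.ext ((hr _).trans hx)⟩⟩
  rintro _ ⟨z, hz, rfl⟩ hzF
  exact hxF ((hc _ (hsub hz)).mp (show e z.1 ∈ F from hr z ▸ hzF))

/-- Images of closed subsets of quasi-compact schemes in affine schemes. -/
lemma isClosed_ct_image {T V : Scheme.{u}} [CompactSpace T] [IsAffine V] (a : T ⟶ V) {Z : Set T}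
    (hZ : IsClosed Z) : IsClosed[constructibleTopology V] (a '' Z) := by
  have := spectralSpace_of_isAffine V
  let 𝒰 := T.affineCover.finiteSubcover
  have hZe : a '' Z = ⋃ i, (𝒰.f i ≫ a) '' (𝒰.f i ⁻¹' Z) := by
    ext v
    simp only [Set.mem_image, Set.mem_iUnion, Set.mem_preimage]
    constructor
    · rintro ⟨z, hz, rfl⟩
      obtain ⟨y, hy⟩ := 𝒰.covers z
      exact ⟨_, y, hy.symm ▸ hz, by rw [Scheme.Hom.comp_apply, hy]⟩
    · rintro ⟨i, y, hy, rfl⟩
      exact ⟨_, hy, rfl⟩
  rw [hZe]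
  refine @isClosed_iUnion_of_finite V _ (constructibleTopology V) _ _ fun i => ?_
  have : IsAffine (𝒰.X i) := inferInstanceAs (IsAffine (T.affineCover.X _))
  have := spectralSpace_of_isAffine (𝒰.X i)
  have : IsAffineHom (𝒰.f i ≫ a) := isAffineHom_of_isAffine _
  exact @IsCompact.isClosed V (constructibleTopology V) t2Space_ct _
    (@IsCompact.image _ _ (constructibleTopology (𝒰.X i)) (constructibleTopology V) _ _
      (isCompact_ct_of_isClosed_ct (isClosed_ct_of_isClosed (hZ.preimage (𝒰.f i).continuous)))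
      (continuous_ct (𝒰.f i ≫ a).isSpectralMap))

lemma isClosed_ct_range {T V : Scheme.{u}} [CompactSpace T] [IsAffine V] (a : T ⟶ V) :
    IsClosed[constructibleTopology V] (Set.range a) :=
  Set.image_univ (f := (a : T → V)) ▸ isClosed_ct_image a isClosed_univ

lemma exists_factor_preimmersion {Z : Scheme.{u}} (i : Z ⟶ X) [IsPreimmersion i] {Ω : Type u} [Field Ω]
    (σ : Spec (CommRingCat.of Ω) ⟶ X) (z : Z) (hz : ptOf σ = i z) :
    ∃ τ : Spec (CommRingCat.of Ω) ⟶ Z, τ ≫ i = σ := by
  obtain ⟨φ, rfl⟩ := exists_factor_at σ hz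
  have : IsIso (i.residueFieldMap z) :=
    (ConcreteCategory.isIso_iff_bijective _).mpr (isPreimmersion_residue_bijective i z)
  refine ⟨Spec.map (inv (i.residueFieldMap z) ≫ φ) ≫ Z.fromSpecResidueField z, ?_⟩
  rw [Category.assoc, ← Scheme.Hom.SpecMap_residueFieldMap_fromSpecResidueField,
    ← Spec.map_comp_assoc, IsIso.hom_inv_id_assoc]

section

variable (f : X ⟶ Y) [LocallyQuasiFinite f] [LocallyOfFiniteType f] (w : X → ℤ)
  (hw : MoreMor.IsWeighting f w)

include hw in
/-- Level sets of weightings are locally constructible. -/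
theorem isLocallyConstructible_weighting (E : Set ℤ) : IsLocallyConstructible (w ⁻¹' E) := by
  refine isLocallyConstructible_of_local _ fun x => ?_
  obtain ⟨V₀, k₀, v₀, hk₀, hkv, J, _, Q₀, -, hmem, hcov⟩ :=
    exists_pieces f (f x) {x} (Set.finite_singleton x) (by simp)
  obtain ⟨z, hzx, hzv⟩ := Scheme.Pullback.exists_preimage_pullback (f := f) (g := k₀) x v₀ hkv.symm
  obtain ⟨j, -⟩ := hcov z hzv hzx
  obtain ⟨A, hA, hvA, -⟩ := exists_isAffineOpen_mem_and_subset (U := (⊤ : V₀.Opens)) (x := v₀) trivial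
  let k := A.ι ≫ k₀
  let v : A.toScheme := ⟨v₀, hvA⟩
  obtain ⟨Q, -, hQp⟩ := (Q₀ j).exists_baseChange A.ι (rfl : A.ι ≫ k₀ = k) v rfl
  have hQx : pullback.fst f k Q.pt = x := by
    rw [← fst_pullMap f A.ι rfl, hQp]; exact hmem j
  have : IsAffine A.toScheme := hA
  have := spectralSpace_of_isAffine A.toScheme
  let π := Q.opens.ι ≫ pullback.snd f k
  have : IsFinite π := Q.finite
  have : IsFinite (Q.opens.ι ≫ pullback.snd f k) := Q.finite
  have : IsAffine Q.opens.toScheme := isAffine_of_isAffineHom π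
  have := spectralSpace_of_isAffine Q.opens.toScheme
  have : IsAffine (pullback π π) := isAffine_of_isAffineHom (pullback.fst π π)
  have := spectralSpace_of_isAffine (pullback π π)
  have := Groth.Agent.S4599.result π
  let Δ := pullback.diagonal π
  let ρ := pullback.fst π π ≫ π
  let D : Set ↑(pullback π π) := (Set.range Δ)ᶜ
  have hD : IsClosed[constructibleTopology ↑(pullback π π)] D :=
    (isClopen_ct_of_isConstructible (Set.image_univ (f := (Δ : Q.opens.toScheme → _)) ▸
      Δ.isConstructible_image IsConstructible.univ).compl).1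
  have hB : IsClosed[constructibleTopology A.toScheme] (ρ '' D) :=
    @IsCompact.isClosed _ (constructibleTopology A.toScheme) t2Space_ct _
      (@IsCompact.image _ _ (constructibleTopology ↑(pullback π π)) (constructibleTopology A.toScheme) _ _
        (isCompact_ct_of_isClosed_ct hD) (continuous_ct ρ.isSpectralMap))
  have hvB : v ∉ ρ '' D := by
    rintro ⟨d, hd, hdv⟩
    let σ := algClosurePt d
    have hσ : ptOf σ = d := ptOf_algClosurePt d
    have hmemQ : ∀ q : pullback π π ⟶ Q.opens, q ≫ π = ρ → ptOf (σ ≫ q ≫ Q.opens.ι) = Q.pt := by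
      intro q hq
      rw [ptOf_comp, hσ, Scheme.Hom.comp_apply]
      refine Q.eq_pt _ (q d).2 ?_
      exact (congr($hq d)).trans hdv
    have he := Q.inj _ _ _ (hmemQ (pullback.fst π π) rfl) (hmemQ (pullback.snd π π) pullback.condition.symm)
      (by simp only [Category.assoc]; exact congrArg (σ ≫ ·) pullback.condition)
    rw [← Category.assoc, ← Category.assoc, cancel_mono] at he
    have hσΔ : σ = (σ ≫ pullback.fst π π) ≫ Δ := by
      apply pullback.hom_ext <;> simp [Δ, he]
    refine hd ⟨ptOf (σ ≫ pullback.fst π π), ?_⟩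
    rw [← ptOf_comp, ← hσΔ, hσ]
  have hN := (IsLocallyConstant.iff_eventually_eq _).mp
    (isLocallyConstant_openIntegral f w hw k Q.opens) v
  obtain ⟨N, hN, hNo, hvN⟩ := eventually_nhds_iff.mp hN
  have hT : IsOpen[constructibleTopology A.toScheme] ((ρ '' D)ᶜ ∩ N) :=
    @IsOpen.inter _ (constructibleTopology A.toScheme) _ _
      ((@isOpen_compl_iff _ _ (constructibleTopology A.toScheme)).mpr hB)
      (constructibleTopology_le _ hNo)
  refine ⟨Q.opens.toScheme, Q.opens.ι ≫ pullback.fst f k, ⟨Q.pt, Q.pt_mem⟩, π ⁻¹' ((ρ '' D)ᶜ ∩ N),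
    inferInstance, inferInstance, @IsOpen.preimage _ _ (constructibleTopology Q.opens.toScheme)
      (constructibleTopology A.toScheme) _ (continuous_ct π.isSpectralMap) _ hT, ?_, ?_, ?_⟩
  · have hpv : π ⟨Q.pt, Q.pt_mem⟩ = v := by simp only [π, Scheme.Hom.comp_apply]; exact Q.snd_pt
    show π ⟨Q.pt, Q.pt_mem⟩ ∈ (ρ '' D)ᶜ ∩ N
    rw [hpv]; exact ⟨hvB, hvN⟩
  · rw [Scheme.Hom.comp_apply]; exact hQx
  · rintro c ⟨hcB, hcN⟩
    let vb := algClosurePt (π c)
    obtain ⟨τc, hτc⟩ := exists_geomPt_at π vb c (ptOf_algClosurePt _).symm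
    have huniq : openPts (pullback.snd f k) Q.opens vb = {(openPtsEquiv _ Q.opens vb τc).1} := by
      refine Set.eq_singleton_iff_unique_mem.mpr ⟨(openPtsEquiv _ Q.opens vb τc).2, fun σ hσ => ?_⟩
      obtain ⟨τ, hτ⟩ := (openPtsEquiv _ Q.opens vb).surjective ⟨σ, hσ⟩
      let d := pullback.lift τ.1 τc.1 (τ.2.trans τc.2.symm : τ.1 ≫ π = τc.1 ≫ π)
      have hd : ptOf d ∈ Set.range Δ := by
        by_contra hd
        refine hcB ⟨ptOf d, hd, ?_⟩
        rw [← ptOf_comp, show d ≫ ρ = vb by rw [pullback.lift_fst_assoc]; exact τ.2]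
        exact ptOf_algClosurePt _
      obtain ⟨y, hy⟩ := hd
      obtain ⟨ξ, hξ⟩ := exists_factor_preimmersion Δ d y hy.symm
      have : τ = τc := Subtype.ext (by
        refine (pullback.lift_fst _ _ _ : d ≫ pullback.fst π π = τ.1).symm.trans
          (Eq.trans ?_ (pullback.lift_snd _ _ _ : d ≫ pullback.snd π π = τc.1))
        show d ≫ pullback.fst π π = d ≫ pullback.snd π π
        rw [← hξ]; simp [Δ])
      rw [← this, hτ]
    have h1 := hN _ hcN
    rw [Piece.openIntegral_self, openIntegral_eq_sum _ Q.opens vb _ (ptOf_algClosurePt _), huniq,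
      finsum_mem_singleton] at h1
    have hpt : ptOf (openPtsEquiv (pullback.snd f k) Q.opens vb τc).1.1 = Q.opens.ι c := by
      show ptOf (τc.1 ≫ Q.opens.ι) = _
      rw [ptOf_comp, hτc]
    rw [hpt, hQx] at h1
    show w ((Q.opens.ι ≫ pullback.fst f k) c) ∈ E ↔ w x ∈ E
    rw [Scheme.Hom.comp_apply, h1]

include hw in
/-- Weightings of quasi-compact sources take finitely many values. -/
theorem finite_range_weighting [CompactSpace X] : (Set.range w).Finite := by
  have key : ∀ A : X.Opens, IsAffineOpen A → (w '' (A : Set X)).Finite := by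
    intro A hA
    have : IsAffine A.toScheme := hA
    have := spectralSpace_of_isAffine A.toScheme
    have := EGA41Two.spectralSpace_affine A hA
    have : CompactSpace A.toScheme := isCompact_iff_compactSpace.mp hA.isCompact
    have hopen : ∀ n : ℤ, IsOpen[constructibleTopology A.toScheme] (A.ι ⁻¹' (w ⁻¹' {n})) := fun n =>
      (isClopen_ct_of_isConstructible (X := A.toScheme)
        ((isLocallyConstructible_weighting f w hw {n}).preimage_of_isOpenEmbedding
          A.ι.isOpenEmbedding).isConstructible).2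
    obtain ⟨t, ht⟩ := @IsCompact.elim_finite_subcover _ (constructibleTopology A.toScheme) Set.univ _
      (@isCompact_univ _ (constructibleTopology A.toScheme) compactSpace_ct) _ hopen
      (fun a _ => Set.mem_iUnion.mpr ⟨w a.1, rfl⟩)
    refine t.finite_toSet.subset ?_
    rintro _ ⟨a, ha, rfl⟩
    obtain ⟨n, hn, han⟩ := Set.mem_iUnion₂.mp (ht (Set.mem_univ (⟨a, ha⟩ : A.toScheme)))
    exact (show w a = n from han) ▸ hn
  choose A hA hxA _ using fun x : X =>
    exists_isAffineOpen_mem_and_subset (U := (⊤ : X.Opens)) (x := x) trivial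
  obtain ⟨t, ht⟩ := isCompact_univ.elim_finite_subcover (fun x => (A x : Set X)) (fun x => (A x).2)
    fun x _ => Set.mem_iUnion.mpr ⟨x, hxA x⟩
  refine (t.finite_toSet.biUnion fun x _ => key (A x) (hA x)).subset ?_
  rintro _ ⟨x, rfl⟩
  obtain ⟨i, hi, hxi⟩ := Set.mem_iUnion₂.mp (ht (Set.mem_univ x))
  exact Set.mem_biUnion hi ⟨x, hxi, rfl⟩

omit [LocallyQuasiFinite f] [LocallyOfFiniteType f] in
lemma geomPt_injective_ptOf {Ω : Type u} [Field Ω] {P : Scheme.{u}} (p : P ⟶ Spec (CommRingCat.of Ω)) :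
    Function.Injective (fun σ : GeomPt p (𝟙 _) => ptOf σ.1) := by
  rintro ⟨σ, hσ⟩ ⟨σ', hσ'⟩ (e : ptOf σ = ptOf σ')
  obtain ⟨x₀, ψ, rfl⟩ := Flatmor4.exists_spec_field_factor σ
  obtain ⟨φ, rfl⟩ := exists_factor_at σ' (e.symm.trans (Flatmor4.specMap_fromSpecResidueField_apply ψ default))
  have h := hσ.trans hσ'.symm
  rw [Category.assoc, Category.assoc, ← Scheme.Hom.SpecMap_residueFieldMap_fromSpecResidueField,
    ← Spec.map_comp_assoc, ← Spec.map_comp_assoc] at h
  have h2 := Flatmor4.specMap_fromSpecResidueField_inj h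
  have hR : IsIso (p.residueFieldMap x₀) := by
    refine (ConcreteCategory.isIso_iff_bijective _).mpr ⟨RingHom.injective _, ?_⟩
    have hs : Function.Surjective (p.residueFieldMap x₀ ≫ ψ).hom := by
      have e1 : Spec.map (p.residueFieldMap x₀ ≫ ψ) ≫ (Spec (CommRingCat.of Ω)).fromSpecResidueField (p x₀) = 𝟙 _ := by
        rw [Spec.map_comp, Category.assoc, Scheme.Hom.SpecMap_residueFieldMap_fromSpecResidueField,
          ← Category.assoc]; exact hσ
      have : IsIso ((Spec (CommRingCat.of Ω)).fromSpecResidueField (p x₀)) := by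
        have : Epi ((Spec (CommRingCat.of Ω)).fromSpecResidueField (p x₀)) :=
          (IsSplitEpi.mk' ⟨_, e1⟩).epi
        have := IsSplitEpi.mk' (f := (Spec (CommRingCat.of Ω)).fromSpecResidueField (p x₀)) ⟨_, e1⟩
        exact isIso_of_mono_of_isSplitEpi _
      have : IsIso (Spec.map (p.residueFieldMap x₀ ≫ ψ)) := by
        rw [show Spec.map (p.residueFieldMap x₀ ≫ ψ) =
          inv ((Spec (CommRingCat.of Ω)).fromSpecResidueField (p x₀)) from
            IsIso.eq_inv_of_hom_inv_id (by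
              rw [← cancel_mono ((Spec (CommRingCat.of Ω)).fromSpecResidueField (p x₀)), Category.assoc, e1]; simp)]
        infer_instance
      have : IsIso (Scheme.Spec.map (p.residueFieldMap x₀ ≫ ψ).op) := this
      have := isIso_of_reflects_iso (p.residueFieldMap x₀ ≫ ψ).op Scheme.Spec
      have := isIso_of_op (p.residueFieldMap x₀ ≫ ψ)
      exact (ConcreteCategory.bijective_of_isIso (p.residueFieldMap x₀ ≫ ψ)).2
    intro a
    obtain ⟨b, hb⟩ := hs (ψ.hom a)
    exact ⟨b, ψ.hom.injective hb⟩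
  exact Subtype.ext (congrArg (Spec.map · ≫ P.fromSpecResidueField _) ((cancel_epi _).mp h2))

include hw in
/-- The fibre integral attains a maximum if the source is quasi-compact. -/
theorem exists_max_fibreIntegral [CompactSpace X] [Nonempty Y] :
    ∃ y₀ : Y, ∀ y : Y, MoreMor.fibreIntegral f w y ≤ MoreMor.fibreIntegral f w y₀ := by
  classical
  obtain ⟨M, hM⟩ := ((finite_range_weighting f w hw).image abs).bddAbove
  choose T j n hj hxj hb using exists_bounded_nhd f
  obtain ⟨t, ht⟩ := isCompact_univ.elim_finite_subcover (fun x => Set.range (j x))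
    (fun x => (j x).isOpenEmbedding.isOpen_range) fun x _ => Set.mem_iUnion.mpr ⟨x, hxj x⟩
  suffices hbd : ∀ y, |MoreMor.fibreIntegral f w y| ≤ max M 0 * ∑ x ∈ t, (n x : ℤ) by
    set B := max M 0 * ∑ x ∈ t, (n x : ℤ)
    have : (Set.range (MoreMor.fibreIntegral f w)).Finite := (Set.finite_Icc (-B) B).subset (by
      rintro _ ⟨y, rfl⟩; exact abs_le.mp (hbd y))
    obtain ⟨_, ⟨y₀, rfl⟩, hy₀⟩ := this.exists_maximalFor id _ (Set.range_nonempty _)
    exact ⟨y₀, fun y => (le_total _ _).elim id (hy₀ ⟨y, rfl⟩)⟩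
  intro y
  let vb := algClosurePt y
  let m := fun x => pullback.map (j x ≫ f) vb f vb (j x) (𝟙 _) (𝟙 _) (by simp) (by simp)
  have hcov : (Set.univ : Set ↑(pullback f vb)) ⊆ ⋃ x ∈ t, Set.range (m x) := fun z _ => by
    obtain ⟨x, hx, z', hz'⟩ := Set.mem_iUnion₂.mp (ht (Set.mem_univ (pullback.fst f vb z)))
    refine Set.mem_iUnion₂.mpr ⟨x, hx, ?_⟩
    rw [Scheme.Pullback.range_map]
    exact ⟨⟨z', hz'⟩, Set.mem_range.mpr ⟨_, rfl⟩⟩
  have hcard : ENat.card ↑(pullback f vb) ≤ ((∑ x ∈ t, n x : ℕ) : ℕ∞) := by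
    rw [← Set.encard_univ]
    refine ((Set.encard_le_encard hcov).trans (t.set_encard_biUnion_le _)).trans ?_
    push_cast
    refine Finset.sum_le_sum fun x _ => ?_
    rw [← Set.image_univ]
    exact ((Set.encard_image_le _ _).trans_eq (Set.encard_univ _)).trans (hb x _ vb)
  let e := geomPtBaseChange (IsPullback.of_hasPullback f vb) (𝟙 (Spec (CommRingCat.of _)))
  have hpts : ENat.card (GeomPt f (𝟙 _ ≫ vb)) ≤ ((∑ x ∈ t, n x : ℕ) : ℕ∞) := by
    rw [← ENat.card_congr e]
    exact (ENat.card_le_card_of_injective (geomPt_injective_ptOf _)).trans hcard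
  rw [Category.id_comp] at hpts
  have hfinite : Finite (GeomPt f vb) :=
    ENat.card_lt_top.mp (lt_of_le_of_lt hpts (ENat.natCast_lt_top _))
  have := Fintype.ofFinite (GeomPt f vb)
  have hnat : Fintype.card (GeomPt f vb) ≤ ∑ x ∈ t, n x := by
    rw [ENat.card_eq_coe_fintype_card] at hpts
    exact_mod_cast hpts
  rw [fibreIntegral_eq_sum f vb w (ptOf_algClosurePt y), finsum_eq_sum_of_fintype]
  refine (Finset.abs_sum_le_sum_abs _ _).trans
    ((Finset.sum_le_card_nsmul _ _ (max M 0) fun σ _ => le_max_of_le_left (hM ⟨_, ⟨_, rfl⟩, rfl⟩)).trans ?_)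
  rw [nsmul_eq_mul, mul_comm, Finset.card_univ, ← Nat.cast_sum]
  exact mul_le_mul_of_nonneg_left (by exact_mod_cast hnat) (le_max_right _ _)

include hw in
/-- Level sets of the fibre integral are locally constructible. -/
theorem isLocallyConstructible_fibreIntegral [QuasiCompact f] [QuasiSeparated f] (E : Set ℤ) :
    IsLocallyConstructible (MoreMor.fibreIntegral f w ⁻¹' E) := by
  classical
  refine isLocallyConstructible_of_local _ fun y => ?_
  have hfib : ∀ y, (f ⁻¹' {y}).Finite := fun y => f.finite_preimage_singleton y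
  obtain ⟨V₀, k₀, v₀, hk₀, hkv, J, _, Q₀, hinj₀, -, hcov₀⟩ :=
    exists_pieces f y (f ⁻¹' {y}) (hfib y) fun x hx => hx
  obtain ⟨A, hA, hvA, -⟩ := exists_isAffineOpen_mem_and_subset (U := (⊤ : V₀.Opens)) (x := v₀) trivial
  let k := A.ι ≫ k₀
  let v : A.toScheme := ⟨v₀, hvA⟩
  choose Q hQo hQp using fun j => (Q₀ j).exists_baseChange A.ι (rfl : A.ι ≫ k₀ = k) v rfl
  have : IsAffine A.toScheme := hA
  have := spectralSpace_of_isAffine A.toScheme
  have hkvy : k v = y := by simp only [k, Scheme.Hom.comp_apply]; exact hkv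
  let p := pullback.snd f k
  have : CompactSpace ↑(pullback f k) := QuasiCompact.compactSpace_of_compactSpace p
  have : QuasiSeparatedSpace ↑(pullback f k) :=
    quasiSeparatedSpace_of_quasiSeparated p
  have hfinQ := fun j => (Q j).finite
  have hAffQ : ∀ j, IsAffineOpen (Q j).opens := fun j => isAffine_of_isAffineHom ((Q j).opens.ι ≫ p)
  let B₀ : Set A.toScheme := p '' (⋃ j, ((Q j).opens : Set ↑(pullback f k)))ᶜ
  let B₁ : Set A.toScheme := ⋃ i, ⋃ j, ⋃ (_ : i ≠ j), p '' ((Q i).opens ∩ (Q j).opens)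
  have hB₀ : IsClosed[constructibleTopology A.toScheme] B₀ :=
    isClosed_ct_image p (isOpen_iUnion fun j => (Q j).opens.2).isClosed_compl
  have hB₁ : IsClosed[constructibleTopology A.toScheme] B₁ := by
    refine @isClosed_iUnion_of_finite _ _ (constructibleTopology A.toScheme) _ _ fun i =>
      @isClosed_iUnion_of_finite _ _ (constructibleTopology A.toScheme) _ _ fun j =>
      @isClosed_iUnion_of_finite _ _ (constructibleTopology A.toScheme) _ _ fun _ => ?_
    have : CompactSpace ((Q i).opens ⊓ (Q j).opens).toScheme := isCompact_iff_compactSpace.mp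
      ((hAffQ i).isCompact.inter_of_isOpen (hAffQ j).isCompact (Q i).opens.2 (Q j).opens.2)
    convert isClosed_ct_range (((Q i).opens ⊓ (Q j).opens).ι ≫ p) using 1
    rw [show Set.range (((Q i).opens ⊓ (Q j).opens).ι ≫ p) =
      Set.range ((p : _ → A.toScheme) ∘ ((Q i).opens ⊓ (Q j).opens).ι) from rfl,
      Set.range_comp, Scheme.Opens.range_ι]
    rfl
  have hv₀ : v ∉ B₀ := by
    rintro ⟨x, hx, hxv⟩
    obtain ⟨j, hj⟩ := hcov₀ (pullMap f A.ι rfl x) (by rw [snd_pullMap]; exact congrArg A.ι hxv)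
      (by
        rw [fst_pullMap, Set.mem_preimage, Set.mem_singleton_iff, ← hkvy, ← hxv]
        exact congr($(pullback.condition (f := f) (g := k)) x))
    refine hx (Set.mem_iUnion.mpr ⟨j, ?_⟩)
    show x ∈ (Q j).opens
    rw [hQo]
    exact (show pullMap f A.ι rfl x ∈ (Q₀ j).opens from hj ▸ (Q₀ j).pt_mem)
  have hv₁ : v ∉ B₁ := by
    simp only [B₁, Set.mem_iUnion]
    rintro ⟨i, j, hij, x, ⟨hi, hj⟩, hxv⟩
    refine hij (hinj₀ ?_)
    dsimp only
    rw [← hQp i, ← hQp j, ← (Q i).eq_pt x hi hxv, ← (Q j).eq_pt x hj hxv]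
  have hN : ∀ᶠ t in 𝓝 v, ∀ j, openIntegral p (Q j).opens (fun x => w (pullback.fst f k x)) t =
      openIntegral p (Q j).opens (fun x => w (pullback.fst f k x)) v :=
    Filter.eventually_all.mpr fun j => (IsLocallyConstant.iff_eventually_eq _).mp
      (isLocallyConstant_openIntegral f w hw k (Q j).opens) v
  obtain ⟨N, hN, hNo, hvN⟩ := eventually_nhds_iff.mp hN
  have main : ∀ t, t ∉ B₀ → t ∉ B₁ → MoreMor.fibreIntegral f w (k t) =
      ∑ᶠ j, openIntegral p (Q j).opens (fun x => w (pullback.fst f k x)) t := by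
    intro t h0 h1
    let vb := algClosurePt t
    have hv : ptOf (vb ≫ k) = k t := by rw [ptOf_comp, ptOf_algClosurePt]
    have := finite_geomPt f (vb ≫ k) (hfib _)
    have := Finite.of_equiv _ (geomPtBaseChange (IsPullback.of_hasPullback f k) vb).symm
    rw [← fibreIntegral_baseChange (IsPullback.of_hasPullback f k) w t (hfib _),
      fibreIntegral_eq_sum _ vb _ (ptOf_algClosurePt t)]
    have hU : (⋃ j, openPts p (Q j).opens vb) = Set.univ := Set.eq_univ_of_forall fun σ => by
      by_contra hσ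
      refine h0 ⟨ptOf σ.1, fun hmem => hσ ?_, σ.apply_ptOf.trans (ptOf_algClosurePt t)⟩
      obtain ⟨j, hj⟩ := Set.mem_iUnion.mp hmem
      exact Set.mem_iUnion.mpr ⟨j, hj⟩
    rw [← finsum_mem_univ, ← hU, finsum_mem_iUnion (t := fun j => openPts p (Q j).opens vb)
      (fun i j hij => Set.disjoint_left.mpr fun σ hi hj => h1 (Set.mem_iUnion.mpr ⟨i,
        Set.mem_iUnion.mpr ⟨j, Set.mem_iUnion.mpr ⟨hij, ptOf σ.1, ⟨hi, hj⟩,
          σ.apply_ptOf.trans (ptOf_algClosurePt t)⟩⟩⟩)) (fun j => Set.toFinite _)]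
    exact finsum_congr fun j => (openIntegral_eq_sum _ (Q j).opens vb _ (ptOf_algClosurePt t)).symm
  refine ⟨A.toScheme, k, v, (B₀ ∪ B₁)ᶜ ∩ N, inferInstance, inferInstance, ?_,
    ⟨not_or.mpr ⟨hv₀, hv₁⟩, hvN⟩, hkvy, ?_⟩
  · exact @IsOpen.inter _ (constructibleTopology A.toScheme) _ _
      (Set.compl_union B₀ B₁ ▸ @IsOpen.inter _ (constructibleTopology A.toScheme) _ _
        ((@isOpen_compl_iff _ _ (constructibleTopology A.toScheme)).mpr hB₀)
        ((@isOpen_compl_iff _ _ (constructibleTopology A.toScheme)).mpr hB₁)) (constructibleTopology_le _ hNo)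
  · rintro c ⟨hc, hcN⟩
    obtain ⟨hc0, hc1⟩ := not_or.mp hc
    show MoreMor.fibreIntegral f w (k c) ∈ E ↔ MoreMor.fibreIntegral f w y ∈ E
    rw [← hkvy, main c hc0 hc1, main v hv₀ hv₁, finsum_congr (hN c hcN)]

end

end Groth.FlatMor2
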