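import Groth.Agent.FlatMor2.Weighting.FlatLength
import Groth.Agent.FlatMor2.Weighting.Constructible
import Groth.Prelude.Def_Mor2
import Mathlib.LinearAlgebra.Dimension.Finrank

/-!
# The degree of the fibres of a flat locally quasi-finite morphism
-/

set_option autoImplicit false
set_option linter.style.haveILetI false

universe u

open CategoryTheory CategoryTheory.Limits AlgebraicGeometry IsLocalRing TopologicalSpace Topology

namespace Groth.FlatMor2

variable {X S : Scheme.{u}}

/-- The fibre over a point, over the field. -/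
noncomputable abbrev fibMap (f : X ⟶ S) (s : S) :
    f.fiber s ⟶ Spec (CommRingCat.of (S.residueField s)) := f.fiberToSpecResidueField s

/-- The degree of the fibre at a point. -/
noncomputable def fibDeg (f : X ⟶ S) (s : S) : ℕ :=
  (fibMap f s).finrank (IsLocalRing.closedPoint (S.residueField s))

lemma isFinite_fibMap (f : X ⟶ S) [LocallyQuasiFinite f] (s : S) (h : (f ⁻¹' {s}).Finite) :
    IsFinite (fibMap f s) := by
  have := h.to_subtype
  have : Finite (f.fiber s) := Finite.of_equiv _ (f.fiberHomeo s).toEquiv.symm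
  have : CompactSpace (f.fiber s) := inferInstance
  have : QuasiCompact (fibMap f s) :=
    (quasiCompact_iff_compactSpace (f := fibMap f s)).mpr inferInstance
  have : LocallyQuasiFinite (fibMap f s) := MorphismProperty.pullback_snd f _ ‹_›
  have : IsLocallyArtinian (Spec (CommRingCat.of (S.residueField s))) :=
    IsLocallyArtinian.iff_isLocallyNoetherian_and_discreteTopology.mpr ⟨inferInstance, inferInstance⟩
  exact IsFinite.of_locallyQuasiFinite (fibMap f s)

/-- Base change to a field-valued point. -/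
theorem finite_snd_field (f : X ⟶ S) [LocallyQuasiFinite f] {K : Type u} [Field K]
    (g : Spec (CommRingCat.of K) ⟶ S) (s : S) (hs : ptOf g = s) (h : (f ⁻¹' {s}).Finite)
    (z : ↥(Spec (CommRingCat.of K))) :
    IsFinite (pullback.snd f g) ∧ (pullback.snd f g).finrank z = fibDeg f s := by
  obtain ⟨ψ, rfl⟩ := exists_factor_at g hs
  have := isFinite_fibMap f s h
  have := Misc3Fib.flat_of_field (fibMap f s)
  let p : pullback f (S.fromSpecResidueField s) ⟶ Spec (S.residueField s) :=
    pullback.snd f (S.fromSpecResidueField s)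
  have hpf : IsFinite p := isFinite_fibMap f s h
  have hpl : Flat p := Misc3Fib.flat_of_field (fibMap f s)
  let e := pullbackLeftPullbackSndIso f (S.fromSpecResidueField s) (Spec.map ψ)
  have he : e.inv ≫ pullback.snd p (Spec.map ψ) = pullback.snd f (Spec.map ψ ≫ S.fromSpecResidueField s) :=
    e.inv_comp_eq.mpr (pullbackLeftPullbackSndIso_hom_snd f _ _).symm
  refine ⟨he ▸ (inferInstance : IsFinite (e.inv ≫ pullback.snd p (Spec.map ψ))), ?_⟩
  rw [← he, Scheme.Hom.finrank_comp_left_of_isIso, Scheme.Hom.finrank_pullback_snd p (Spec.map ψ) z,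
    fibDeg]
  exact congrArg p.finrank (Subsingleton.elim (α := PrimeSpectrum (S.residueField s)) _ _)

/-- The degree of the fibre is the fibre integral of the flat weighting. -/
theorem fibreIntegral_eq_fibDeg (f : X ⟶ S) [LocallyQuasiFinite f] (s : S) (h : (f ⁻¹' {s}).Finite) :
    MoreMor.fibreIntegral f (fun u => ((fibLength f u).toNat : ℤ) * insepDeg f u) s = fibDeg f s :=
  have : IsFinite (fibMap f s) := isFinite_fibMap f s h
  fibreIntegral_flatWeight_of_finite f s (IsLocalRing.closedPoint _)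

/-- The rank over a field-valued point with finite fibre. -/
theorem rank_snd_field (f : X ⟶ S) [LocallyQuasiFinite f] {K : Type u} [Field K]
    (g : Spec (CommRingCat.of K) ⟶ S) (s : S) (hs : ptOf g = s) (h : (f ⁻¹' {s}).Finite) :
    (letI := ((Scheme.ΓSpecIso (CommRingCat.of K)).inv ≫ (pullback.snd f g).appTop).hom.toAlgebra
     Module.rank K (Γ(pullback f g, ⊤) : Type u)) = (fibDeg f s : Cardinal.{u}) := by
  obtain ⟨h1, h2⟩ := finite_snd_field f g s hs h default
  let := ((Scheme.ΓSpecIso (CommRingCat.of K)).inv ≫ (pullback.snd f g).appTop).hom.toAlgebra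
  have : Module.Finite K Γ(pullback f g, ⊤) :=
    ((Misc3Fib.finiteOfDegLE_iff (pullback.snd f g) _).2 ⟨h1, le_rfl⟩).2.1
  rw [← h2, Misc6.GenericDegree.finrank_eq_appTop K (pullback.snd f g) default]
  exact (Module.finrank_eq_rank K Γ(pullback f g, ⊤)).symm

lemma natCard_fibre_le (f : X ⟶ S) [LocallyQuasiFinite f] (s : S) (h : (f ⁻¹' {s}).Finite) :
    (f ⁻¹' {s}).ncard ≤ fibDeg f s := by
  have := isFinite_fibMap f s h
  rw [fibDeg, ← Misc3Fib.deg_eq_finrank (fibMap f s)]
  refine le_trans ?_ (Misc3Fib.natCard_le (fibMap f s))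
  exact le_of_eq (Nat.card_congr (f.fiberHomeo s).toEquiv).symm

/-- Base change preserves finiteness of fibres and their degrees. -/
theorem fibre_baseChange (f : X ⟶ S) [LocallyQuasiFinite f] {T : Scheme.{u}} (g : T ⟶ S) (t : T)
    (h : (f ⁻¹' {g t}).Finite) :
    (pullback.snd f g ⁻¹' {t}).Finite ∧ fibDeg (pullback.snd f g) t = fibDeg f (g t) := by
  have hg : ptOf (Ω := T.residueField t) (T.fromSpecResidueField t ≫ g) = g t := by
    rw [ptOf_comp]; exact congrArg g (T.fromSpecResidueField_apply t _)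
  obtain ⟨h1, h2⟩ := finite_snd_field f (T.fromSpecResidueField t ≫ g) (g t) hg h
    (IsLocalRing.closedPoint (T.residueField t))
  let e := pullbackLeftPullbackSndIso f g (T.fromSpecResidueField t)
  have he : e.hom ≫ pullback.snd f (T.fromSpecResidueField t ≫ g) = fibMap (pullback.snd f g) t :=
    pullbackLeftPullbackSndIso_hom_snd f g _
  have hfin : IsFinite (fibMap (pullback.snd f g) t) := he ▸
    (MorphismProperty.cancel_left_of_respectsIso @IsFinite e.hom _).mpr h1
  have := (Misc3Fib.finite_discrete_of_isFinite (fibMap (pullback.snd f g) t)).1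
  refine ⟨Set.finite_coe_iff.mp
    (Finite.of_equiv _ ((pullback.snd f g).fiberHomeo t).toEquiv), ?_⟩
  have : IsFinite (pullback.snd f (T.fromSpecResidueField t ≫ g)) := h1
  have : Flat (pullback.snd f (T.fromSpecResidueField t ≫ g)) :=
    Misc3Fib.flat_of_field (k := T.residueField t) _
  rw [fibDeg, ← he]
  exact (congrFun (Scheme.Hom.finrank_comp_left_of_isIso e.hom
    (pullback.snd f (T.fromSpecResidueField t ≫ g))) _).trans h2

section Finite

variable (f : X ⟶ S) [Flat f] [LocallyOfFinitePresentation f] [IsSeparated f] [LocallyQuasiFinite f]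
  (hfin : ∀ s : S, (f ⁻¹' {s}).Finite)

include hfin in
theorem lowerSemicontinuous_fibDeg : LowerSemicontinuous (fun s => (fibDeg f s : ℤ)) := by
  have h := lowerSemicontinuous_fibreIntegral f _ (isWeighting_flatWeight f) (flatWeight_pos f) hfin
  rwa [funext fun s => fibreIntegral_eq_fibDeg f s (hfin s)] at h

include hfin in
theorem isOpen_le_fibDeg (d : ℕ) : IsOpen {s : S | d ≤ fibDeg f s} := by
  have : {s : S | d ≤ fibDeg f s} = (fun s => (fibDeg f s : ℤ)) ⁻¹' Set.Ioi ((d : ℤ) - 1) := by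
    ext s
    simp only [Set.mem_preimage, Set.mem_Ioi, Set.mem_ofPred_eq]
    omega
  exact this ▸ (lowerSemicontinuous_fibDeg f hfin).isOpen_preimage _

include hfin in
theorem isClosed_fibDeg_le (r : ℕ) : IsClosed {s : S | fibDeg f s ≤ r} := by
  have : {s : S | fibDeg f s ≤ r} = {s : S | r + 1 ≤ fibDeg f s}ᶜ := by
    ext s
    simp only [Set.mem_compl_iff, Set.mem_ofPred_eq]
    omega
  exact this ▸ (isOpen_le_fibDeg f hfin (r + 1)).isClosed_compl

include hfin in
theorem isFinite_of_fibDeg_eq (r : ℕ) (h : ∀ s, fibDeg f s = r) : IsFinite f := by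
  have hd : ∀ s, MoreMor.fibreIntegral f (fun u => ((fibLength f u).toNat : ℤ) * insepDeg f u) s = r :=
    fun s => by rw [fibreIntegral_eq_fibDeg f s (hfin s), h]
  obtain ⟨hU, hfU⟩ := isFinite_over_max f _ (isWeighting_flatWeight f) (flatWeight_pos f) hfin r
    fun s => (hd s).le
  refine (IsZariskiLocalAtTarget.iff_of_iSup_eq_top (P := @IsFinite)
    (fun _ : Unit => (⟨_, hU⟩ : S.Opens)) ?_).mpr fun _ => hfU
  exact eq_top_iff.mpr fun s _ => Opens.mem_iSup.mpr ⟨(), hd s⟩

include hfin in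
/-- The strata of the degree function are universal for finite local freeness of given degree. -/
theorem isFinLocFreeOfDeg_iff {T : Scheme.{u}} (g : T ⟶ S) (r : ℕ) :
    Mor2.IsFinLocFreeOfDeg r (pullback.snd f g) ↔ ∀ t : T, fibDeg f (g t) = r := by
  have hd : ∀ t, fibDeg (pullback.snd f g) t = fibDeg f (g t) :=
    fun t => (fibre_baseChange f g t (hfin _)).2
  have heq : IsFinite (pullback.snd f g) → ∀ t, fibDeg (pullback.snd f g) t = (pullback.snd f g).finrank t :=
    fun _ t => (Scheme.Hom.finrank_pullback_snd (pullback.snd f g) (T.fromSpecResidueField t)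
      (IsLocalRing.closedPoint _)).trans
      (congrArg (pullback.snd f g).finrank (T.fromSpecResidueField_apply t _))
  constructor
  · rintro ⟨⟨h1, h2, h3⟩, h4⟩ t
    rw [← hd, heq h1, h4]
  · intro h
    have h1 : IsFinite (pullback.snd f g) := isFinite_of_fibDeg_eq (pullback.snd f g)
      (fun t => (fibre_baseChange f g t (hfin _)).1) r fun t => (hd t).trans (h t)
    exact ⟨⟨h1, inferInstance, inferInstance⟩, fun t => by rw [← heq h1, hd, h]⟩

include hfin in
/-- The level sets are retrocompact when the morphism is quasi-compact. -/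
theorem isRetrocompact_fibDeg_eq [QuasiCompact f] (r : ℕ) : IsRetrocompact {s : S | fibDeg f s = r} := by
  have h := isLocallyConstructible_fibreIntegral f _ (isWeighting_flatWeight f) ({(r : ℤ)} : Set ℤ)
  rw [funext fun s => fibreIntegral_eq_fibDeg f s (hfin s)] at h
  have hE : ((fun s => (fibDeg f s : ℤ)) ⁻¹' {(r : ℤ)}) = {s : S | fibDeg f s = r} := by
    ext s; simp
  rw [hE] at h
  intro U hU hUo
  obtain ⟨J, hJ⟩ := hU.elim_finite_subcover
    (fun A : {A : S.Opens // IsAffineOpen A ∧ (A : Set S) ⊆ U} => ((A.1 : S.Opens) : Set S))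
    (fun A => A.1.isOpen) fun x hx => by
      obtain ⟨A, hA, hxA, hAU⟩ := exists_isAffineOpen_mem_and_subset (U := ⟨U, hUo⟩) (x := x) hx
      exact Set.mem_iUnion.mpr ⟨⟨A, hA, hAU⟩, hxA⟩
  have heq : {s : S | fibDeg f s = r} ∩ U =
      ⋃ A ∈ J, (Subtype.val '' (Subtype.val ⁻¹' {s : S | fibDeg f s = r} : Set A.1.toScheme)) := by
    refine Set.Subset.antisymm (fun x hx => ?_) (Set.iUnion₂_subset fun A _ => ?_)
    · obtain ⟨A, hA, hxA⟩ := Set.mem_iUnion₂.mp (hJ hx.2)
      exact Set.mem_iUnion₂.mpr ⟨A, hA, ⟨x, hxA⟩, hx.1, rfl⟩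
    · rintro _ ⟨x, hx, rfl⟩
      exact ⟨hx, A.2.2 x.2⟩
  rw [heq]
  refine J.finite_toSet.isCompact_biUnion fun A _ => ?_
  have : IsAffine A.1.toScheme := A.2.1
  have := spectralSpace_of_isAffine A.1.toScheme
  have hc : IsCompact (Subtype.val ⁻¹' {s : S | fibDeg f s = r} : Set A.1.toScheme) :=
    SpectralTopology.isCompact_of_isClosed_ct
      ((EGA41Two.isLocallyConstructible_iff_lClosed.mp h).1 A.1 A.2.1)
  exact hc.image continuous_subtype_val

end Finite

section Infinite

variable (f : X ⟶ S) [LocallyQuasiFinite f] [LocallyOfFiniteType f]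

open Classical in
/-- Restriction to an open of a discrete scheme is surjective. -/
lemma surjective_res_of_discrete (T : Scheme.{u}) [DiscreteTopology T] (V : T.Opens) :
    Function.Surjective (T.presheaf.map (homOfLE (le_top : V ≤ ⊤)).op) := fun b => by
  obtain ⟨c, hc⟩ := (PropsBasic2.bijective_pi_germ T).2
    (fun x => if h : x ∈ V then T.presheaf.germ V x h b else 0)
  refine ⟨c, TopCat.Presheaf.section_ext T.sheaf V _ _ fun x hx => ?_⟩
  have := congrFun hc x
  simp only [RingHom.pi_apply, dif_pos hx] at this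
  exact (TopCat.Presheaf.germ_res_apply T.presheaf _ x hx c).trans this

/-- A quasi-compact open only decreases the rank. -/
theorem rank_le_of_open (W : X.Opens) {K : Type u} [Field K] (g : Spec (CommRingCat.of K) ⟶ S) :
    (letI := ((Scheme.ΓSpecIso (CommRingCat.of K)).inv ≫ (pullback.snd (W.ι ≫ f) g).appTop).hom.toAlgebra
     Module.rank K (Γ(pullback (W.ι ≫ f) g, ⊤) : Type u)) ≤
    (letI := ((Scheme.ΓSpecIso (CommRingCat.of K)).inv ≫ (pullback.snd f g).appTop).hom.toAlgebra
     Module.rank K (Γ(pullback f g, ⊤) : Type u)) := by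
  let a : pullback (W.ι ≫ f) g ⟶ pullback f g :=
    pullback.map _ _ _ _ W.ι (𝟙 _) (𝟙 S) (by simp) (by simp)
  have ha : a ≫ pullback.snd f g = pullback.snd (W.ι ≫ f) g := by
    simp [a, pullback.lift_snd]
  have : IsOpenImmersion a := inferInstance
  have : LocallyQuasiFinite (pullback.snd f g) := inferInstance
  have : IsLocallyArtinian (Spec (CommRingCat.of K)) :=
    IsLocallyArtinian.iff_isLocallyNoetherian_and_discreteTopology.mpr ⟨inferInstance, inferInstance⟩
  have : IsLocallyArtinian (pullback f g) := IsLocallyArtinian.of_locallyQuasiFinite (pullback.snd f g)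
  have hdisc : DiscreteTopology ↥(pullback f g) := inferInstance
  let := ((Scheme.ΓSpecIso (CommRingCat.of K)).inv ≫ (pullback.snd f g).appTop).hom.toAlgebra
  let := ((Scheme.ΓSpecIso (CommRingCat.of K)).inv ≫ (pullback.snd (W.ι ≫ f) g).appTop).hom.toAlgebra
  let φ : Γ(pullback f g, ⊤) →ₐ[K] Γ(pullback (W.ι ≫ f) g, ⊤) :=
    { a.appTop.hom with
      commutes' := fun c => by
        show a.appTop ((pullback.snd f g).appTop _) = (pullback.snd (W.ι ≫ f) g).appTop _
        rw [← ha]
        rfl }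
  refine LinearMap.rank_le_of_surjective φ.toLinearMap fun b => ?_
  obtain ⟨c, hc⟩ := surjective_res_of_discrete (pullback f g) (a ''ᵁ ⊤) ((a.appIso ⊤).inv b)
  refine ⟨c, ?_⟩
  show a.app ⊤ c = b
  have key : a.app ⊤ = (pullback f g).presheaf.map (homOfLE le_top).op ≫ (a.appIso ⊤).hom := by
    rw [Scheme.Hom.appIso_hom', Scheme.Hom.map_appLE, Scheme.Hom.app_eq_appLE]
    rfl
  rw [key]
  show (a.appIso ⊤).hom ((pullback f g).presheaf.map (homOfLE le_top).op c) = b
  rw [hc, ← CommRingCat.comp_apply, Iso.inv_hom_id]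
  rfl

/-- A finite set of points is contained in an open with finite fibres. -/
theorem exists_open_finite_fibres {F : Set X} (hF : F.Finite) :
    ∃ W : X.Opens, F ⊆ (W : Set X) ∧ ∀ s : S, ((W.ι ≫ f) ⁻¹' {s}).Finite := by
  have h1 : ∀ x : X, ∃ W : X.Opens, x ∈ W ∧ ∀ s : S, ((W : Set X) ∩ f ⁻¹' {s}).Finite := fun x => by
    obtain ⟨A, hA, hxA, -⟩ := exists_isAffineOpen_mem_and_subset (U := (⊤ : S.Opens)) (x := f x) trivial
    obtain ⟨W, hW, hxW, hWA⟩ := exists_isAffineOpen_mem_and_subset (U := f ⁻¹ᵁ A) (x := x) hxA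
    refine ⟨W, hxW, fun s => ?_⟩
    have : IsAffine W.toScheme := hW
    have : IsAffine A.toScheme := hA
    by_cases hs : s ∈ A
    · refine (((f.resLE A W hWA).finite_preimage_singleton ⟨s, hs⟩).image W.ι).subset ?_
      rintro y ⟨hyW, hys⟩
      exact ⟨⟨y, hyW⟩, Subtype.ext ((congr($(Scheme.Hom.resLE_comp_ι f hWA) ⟨y, hyW⟩)).trans hys), rfl⟩
    · exact Set.finite_empty.subset fun y hy => (hs (Set.mem_singleton_iff.mp hy.2 ▸ hWA hy.1)).elim
  choose W hxW hW using h1
  refine ⟨⨆ x : F, W x, fun x hx => Opens.mem_iSup.mpr ⟨⟨x, hx⟩, hxW x⟩, fun s => ?_⟩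
  have := hF.to_subtype
  refine Set.Finite.subset (Set.Finite.preimage ((⨆ x : F, W x).ι.isOpenEmbedding.injective.injOn)
    (Set.finite_iUnion fun x : F => hW x s)) ?_
  intro y hy
  obtain ⟨x, hx⟩ := Opens.mem_iSup.mp y.2
  exact Set.mem_iUnion.mpr ⟨x, hx, hy⟩

/-- An open containing the fibre has the same degree. -/
theorem fibDeg_open_eq (W : X.Opens) (s : S) (h : (f ⁻¹' {s}).Finite)
    (hW : f ⁻¹' {s} ⊆ (W : Set X)) : fibDeg (W.ι ≫ f) s = fibDeg f s := by
  let g : Spec (CommRingCat.of (S.residueField s)) ⟶ S := S.fromSpecResidueField s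
  have hg : ptOf g = s := S.fromSpecResidueField_apply s _
  have hWfin : ((W.ι ≫ f) ⁻¹' {s}).Finite :=
    (Set.Finite.preimage (W.ι.isOpenEmbedding.injective.injOn) h : (W.ι ⁻¹' (f ⁻¹' {s})).Finite)
  obtain ⟨-, h1⟩ := finite_snd_field (W.ι ≫ f) g s hg hWfin default
  obtain ⟨h3, h2⟩ := finite_snd_field f g s hg h default
  rw [← h1, ← h2]
  let a : pullback (W.ι ≫ f) g ⟶ pullback f g :=
    pullback.map _ _ _ _ W.ι (𝟙 _) (𝟙 S) (by simp) (by simp)
  have : IsOpenImmersion a := inferInstance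
  have : Surjective a := ⟨fun t => by
    have hsub : t ∈ Set.range a := by
      rw [Scheme.Pullback.range_map]
      refine ⟨?_, ⟨pullback.snd f g t, rfl⟩⟩
      show pullback.fst f g t ∈ Set.range W.ι
      rw [Scheme.Opens.range_ι]
      refine hW ?_
      show f (pullback.fst f g t) = s
      rw [← Scheme.Hom.comp_apply, pullback.condition, Scheme.Hom.comp_apply]
      exact S.fromSpecResidueField_apply s _
    exact hsub⟩
  have : IsIso a := IsOpenImmersion.isIso a
  have ha : a ≫ pullback.snd f g = pullback.snd (W.ι ≫ f) g := by simp [a, pullback.lift_snd]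
  have := Misc3Fib.flat_of_field (pullback.snd f g)
  exact congrFun (ha ▸ Scheme.Hom.finrank_comp_left_of_isIso a (pullback.snd f g)) _

/-- An infinite fibre has arbitrarily large degree on opens with finite fibres. -/
theorem exists_open_le_fibDeg {s : S} (h : ¬ (f ⁻¹' {s}).Finite) (d : ℕ) :
    ∃ W : X.Opens, (∀ t : S, ((W.ι ≫ f) ⁻¹' {t}).Finite) ∧ d ≤ fibDeg (W.ι ≫ f) s := by
  obtain ⟨F, hF, hcard⟩ := Set.Infinite.exists_subset_card_eq h d
  obtain ⟨W, hFW, hW⟩ := exists_open_finite_fibres f F.finite_toSet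
  refine ⟨W, hW, le_trans ?_ (natCard_fibre_le (W.ι ≫ f) s (hW s))⟩
  rw [← Set.ncard_image_of_injective _ W.ι.isOpenEmbedding.injective, ← hcard, ← Set.ncard_coe_finset]
  refine Set.ncard_le_ncard (fun x hx => ⟨⟨x, hFW hx⟩, ?_, rfl⟩) ((hW s).image W.ι)
  exact hF hx

/-- The rank of the fibre is at least `d` exactly when some open with finite fibres has degree at least `d`. -/
theorem le_rank_iff {K : Type u} [Field K] (g : Spec (CommRingCat.of K) ⟶ S) (d : ℕ) :
    (d : Cardinal.{u}) ≤ (letI := ((Scheme.ΓSpecIso (CommRingCat.of K)).inv ≫ (pullback.snd f g).appTop).hom.toAlgebra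
     Module.rank K (Γ(pullback f g, ⊤) : Type u)) ↔
    ∃ W : X.Opens, (∀ t : S, ((W.ι ≫ f) ⁻¹' {t}).Finite) ∧ d ≤ fibDeg (W.ι ≫ f) (ptOf g) := by
  constructor
  · intro hd
    by_cases h : (f ⁻¹' {ptOf g}).Finite
    · obtain ⟨W, hFW, hW⟩ := exists_open_finite_fibres f h
      refine ⟨W, hW, ?_⟩
      rw [fibDeg_open_eq f W _ h hFW]
      rw [rank_snd_field f g _ rfl h] at hd
      exact_mod_cast hd
    · exact exists_open_le_fibDeg f h d
  · rintro ⟨W, hW, hd⟩
    refine le_trans ?_ (rank_le_of_open f W g)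
    rw [rank_snd_field (W.ι ≫ f) g _ rfl (hW _)]
    exact_mod_cast hd

lemma range_subset_iff {K : Type u} [Field K] (g : Spec (CommRingCat.of K) ⟶ S) (A : Set S) :
    Set.range g ⊆ A ↔ ptOf g ∈ A := by
  refine ⟨fun h => h ⟨default, rfl⟩, fun h => ?_⟩
  rintro _ ⟨z, rfl⟩
  rwa [show z = default from Subsingleton.elim (α := PrimeSpectrum K) _ _]

/-- Bounded rank implies finite fibres of bounded degree. -/
theorem finite_and_fibDeg_le (n : ℕ) (hn : ∀ (K : Type u) [Field K] (g : Spec (CommRingCat.of K) ⟶ S),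
      (letI := ((Scheme.ΓSpecIso (CommRingCat.of K)).inv ≫ (pullback.snd f g).appTop).hom.toAlgebra
       Module.rank K (Γ(pullback f g, ⊤) : Type u)) ≤ (n : Cardinal.{u})) (s : S) :
    (f ⁻¹' {s}).Finite ∧ fibDeg f s ≤ n := by
  let g : Spec (CommRingCat.of (S.residueField s)) ⟶ S := S.fromSpecResidueField s
  have hg : ptOf g = s := S.fromSpecResidueField_apply s _
  have hfin : (f ⁻¹' {s}).Finite := by
    by_contra h
    obtain ⟨W, hW, hd⟩ := exists_open_le_fibDeg f h (n + 1)
    have : ((n + 1 : ℕ) : Cardinal.{u}) ≤ (n : Cardinal.{u}) :=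
      ((le_rank_iff f g (n + 1)).mpr ⟨W, hW, hg.symm ▸ hd⟩).trans (hn _ g)
    exact absurd (Nat.cast_le.mp this) (by omega)
  refine ⟨hfin, ?_⟩
  have := hn _ g
  rw [rank_snd_field f g s hg hfin] at this
  exact_mod_cast this

end Infinite

/-- The opens where the degree is at least `d`. -/
noncomputable def degOpen (f : X ⟶ S) [Flat f] [LocallyOfFinitePresentation f] [IsSeparated f]
    [LocallyQuasiFinite f] (d : ℕ) : S.Opens :=
  ⨆ W : {W : X.Opens // ∀ t : S, ((W.ι ≫ f) ⁻¹' {t}).Finite},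
    ⟨{s : S | d ≤ fibDeg (W.1.ι ≫ f) s}, isOpen_le_fibDeg (W.1.ι ≫ f) W.2 d⟩

end Groth.FlatMor2
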