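import Groth.Prelude.Def_MoreMor
import Groth.Agent.Flatmor4.QuasiFiniteSplit
import Groth.Agent.Misc3Fib.Count
import Groth.Agent.Misc6.GenericDegree
import Groth.Agent.Misc13.NormSection
import Groth.Agent.Cycles.PushCyc
import Groth.Agent.FlatMor2.FibCrit.Fibre
import Mathlib.RingTheory.LocalRing.Length
import Mathlib.FieldTheory.PurelyInseparable.Tower
import Mathlib.AlgebraicGeometry.Morphisms.Etale

/-!
# The weighting of a flat locally quasi-finite morphism
-/

set_option autoImplicit false
set_option linter.style.haveILetI false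

universe u

open CategoryTheory CategoryTheory.Limits AlgebraicGeometry IsLocalRing

namespace Groth.FlatMor2

variable {X Y : Scheme.{u}}

/-- The length of the local ring of the fibre. -/
noncomputable def fibLength (f : X ⟶ Y) (x : X) : ℕ∞ :=
  Module.length ↑(X.presheaf.stalk x)
    (↑(X.presheaf.stalk x) ⧸ Ideal.map (f.stalkMap x).hom (maximalIdeal ↑(Y.presheaf.stalk (f x))))

/-- The inseparable residue degree. -/
noncomputable def insepDeg (f : X ⟶ Y) (x : X) : ℕ :=
  letI := (f.residueFieldMap x).hom.toAlgebra
  Field.finInsepDegree (Y.residueField (f x)) (X.residueField x)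

lemma map_maximalIdeal_congr {f g : X ⟶ Y} (h : f = g) (x : X) :
    Ideal.map (f.stalkMap x).hom (maximalIdeal ↑(Y.presheaf.stalk (f x))) =
      Ideal.map (g.stalkMap x).hom (maximalIdeal ↑(Y.presheaf.stalk (g x))) := by
  subst h; rfl

lemma map_maximalIdeal_comp {Z : Scheme.{u}} (f : X ⟶ Y) (g : Y ⟶ Z) (x : X) :
    Ideal.map ((f ≫ g).stalkMap x).hom (maximalIdeal ↑(Z.presheaf.stalk ((f ≫ g) x))) =
      (Ideal.map (g.stalkMap (f x)).hom (maximalIdeal ↑(Z.presheaf.stalk (g (f x))))).map
        (f.stalkMap x).hom := by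
  exact (congrArg (fun h => Ideal.map (CommRingCat.Hom.hom h)
    (maximalIdeal ↑(Z.presheaf.stalk (g (f x))))) (Scheme.Hom.stalkMap_comp f g x)).trans
    (Ideal.map_map _ _).symm

lemma map_maximalIdeal_of_unramified (f : X ⟶ Y) [FormallyUnramified f] [LocallyOfFiniteType f] (x : X) :
    Ideal.map (f.stalkMap x).hom (maximalIdeal ↑(Y.presheaf.stalk (f x))) = maximalIdeal _ := by
  let := (f.stalkMap x).hom.toAlgebra
  have : IsLocalHom (algebraMap (Y.presheaf.stalk (f x)) (X.presheaf.stalk x)) :=
    inferInstanceAs <| IsLocalHom (f.stalkMap x).hom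
  have : Algebra.EssFiniteType (Y.presheaf.stalk (f x)) (X.presheaf.stalk x) := by
    rw [← RingHom.essFiniteType_algebraMap]
    exact LocallyOfFiniteType.stalkMap f x
  have : Algebra.FormallyUnramified (Y.presheaf.stalk (f x)) (X.presheaf.stalk x) :=
    AlgebraicGeometry.FormallyUnramified.stalkMap f x
  exact Algebra.FormallyUnramified.map_maximalIdeal

lemma isSeparable_of_unramified (f : X ⟶ Y) [FormallyUnramified f] [LocallyOfFiniteType f] (x : X) :
    letI := (f.residueFieldMap x).hom.toAlgebra
    Algebra.IsSeparable (Y.residueField (f x)) (X.residueField x) :=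
  inferInstance

lemma insepDeg_congr {f g : X ⟶ Y} (h : f = g) (x : X) : insepDeg f x = insepDeg g x := by
  rw [h]

lemma insepDeg_comp {Z : Scheme.{u}} (f : X ⟶ Y) (g : Y ⟶ Z) (x : X)
    (halg : letI := (g.residueFieldMap (f x)).hom.toAlgebra
      Algebra.IsAlgebraic (Z.residueField (g (f x))) (Y.residueField (f x))) :
    insepDeg (f ≫ g) x = insepDeg g (f x) * insepDeg f x := by
  let := (f.residueFieldMap x).hom.toAlgebra
  let := (g.residueFieldMap (f x)).hom.toAlgebra
  let : Algebra (Z.residueField (g (f x))) (X.residueField x) :=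
    ((g.residueFieldMap (f x)) ≫ f.residueFieldMap x).hom.toAlgebra
  have : IsScalarTower (Z.residueField (g (f x))) (Y.residueField (f x)) (X.residueField x) :=
    IsScalarTower.of_algebraMap_eq fun _ => rfl
  have h : insepDeg (f ≫ g) x = Field.finInsepDegree (Z.residueField (g (f x))) (X.residueField x) := by
    unfold insepDeg
    rw [Scheme.residueFieldMap_comp]
    rfl
  have := halg
  rw [h, ← Field.finInsepDegree_mul_finInsepDegree_of_isAlgebraic (Z.residueField (g (f x)))
    (Y.residueField (f x)) (X.residueField x)]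
  rfl

lemma insepDeg_of_unramified (f : X ⟶ Y) [FormallyUnramified f] [LocallyOfFiniteType f] (x : X) :
    insepDeg f x = 1 := by
  let := (f.residueFieldMap x).hom.toAlgebra
  have := isSeparable_of_unramified f x
  exact Algebra.IsSeparable.finInsepDegree_eq _ _

/-- Invariance of the length and the inseparable degree under etale localisation. -/
theorem fibLength_of_etale {U V : Scheme.{u}} {q : U ⟶ X} {p : U ⟶ V} {g : V ⟶ Y} {f : X ⟶ Y}
    (w : q ≫ f = p ≫ g) [Etale q] [Etale g] (u : U) :
    fibLength p u = fibLength f (q u) := by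
  let J := Ideal.map (f.stalkMap (q u)).hom (maximalIdeal ↑(Y.presheaf.stalk (f (q u))))
  have hJ : J.map (q.stalkMap u).hom =
      Ideal.map (p.stalkMap u).hom (maximalIdeal ↑(V.presheaf.stalk (p u))) := by
    rw [← map_maximalIdeal_comp, map_maximalIdeal_congr w, map_maximalIdeal_comp,
      map_maximalIdeal_of_unramified g]
  have hm := map_maximalIdeal_of_unramified q u
  have hflat : (q.stalkMap u).hom.Flat := Flat.stalkMap q u
  let := (q.stalkMap u).hom.toAlgebra
  have : IsLocalHom (algebraMap (X.presheaf.stalk (q u)) (U.presheaf.stalk u)) :=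
    inferInstanceAs <| IsLocalHom (q.stalkMap u).hom
  have : Module.Flat (X.presheaf.stalk (q u)) (U.presheaf.stalk u) := hflat
  have hm' : Ideal.map (algebraMap (X.presheaf.stalk (q u)) (U.presheaf.stalk u))
      (maximalIdeal (X.presheaf.stalk (q u))) = maximalIdeal (U.presheaf.stalk u) := hm
  rw [fibLength, fibLength, ← hJ]
  change Module.length _ (↑(U.presheaf.stalk u) ⧸
    J.map (algebraMap (X.presheaf.stalk (q u)) (U.presheaf.stalk u))) = _
  rw [(Algebra.TensorProduct.quotIdealMapEquivTensorQuot (U.presheaf.stalk u) J).toLinearEquiv.length_eq,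
    IsLocalRing.length_baseChange]
  have h1 : Module.length (U.presheaf.stalk u) (↑(U.presheaf.stalk u) ⧸ Ideal.map
      (algebraMap (X.presheaf.stalk (q u)) (U.presheaf.stalk u))
      (maximalIdeal (X.presheaf.stalk (q u)))) = 1 := by
    rw [hm']
    have : IsSimpleModule (U.presheaf.stalk u) (↑(U.presheaf.stalk u) ⧸ maximalIdeal (U.presheaf.stalk u)) :=
      isSimpleModule_iff_isCoatom.mpr (Ideal.isMaximal_def.mp inferInstance)
    exact Module.length_eq_one _ _
  rw [h1, mul_one]

theorem insepDeg_of_etale {U V : Scheme.{u}} {q : U ⟶ X} {p : U ⟶ V} {g : V ⟶ Y} {f : X ⟶ Y}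
    (w : q ≫ f = p ≫ g) [Etale q] [Etale g] [LocallyQuasiFinite f] [LocallyOfFiniteType f] (u : U) :
    insepDeg p u = insepDeg f (q u) := by
  have h := insepDeg_congr w u
  rw [insepDeg_comp q f u, insepDeg_comp p g u, insepDeg_of_unramified q,
    insepDeg_of_unramified g, mul_one, one_mul] at h
  · exact h.symm
  · let := (g.residueFieldMap (p u)).hom.toAlgebra
    have := isSeparable_of_unramified g (p u)
    infer_instance
  · let := (f.residueFieldMap (q u)).hom.toAlgebra
    have : Module.Finite (Y.residueField (f (q u))) (X.residueField (q u)) :=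
      Flatmor4.finite_residueFieldMap f (f.quasiFiniteAt (q u))
    exact Algebra.IsAlgebraic.of_finite _ _

section Field

variable {k : Type u} [Field k] {T : Scheme.{u}}

/-- A finite scheme over a field: the degree is the sum of length times residue degree. -/
theorem finsum_length_mul_residueDegree (p : T ⟶ Spec (CommRingCat.of k)) [IsFinite p]
    (z : ↥(Spec (CommRingCat.of k))) :
    ∑ᶠ t : T, (Module.length ↑(T.presheaf.stalk t) ↑(T.presheaf.stalk t)).toNat * p.residueDegree t =
      p.finrank z := by
  obtain ⟨hTf, hTd⟩ := Misc3Fib.finite_discrete_of_isFinite p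
  haveI := Fintype.ofFinite T
  have hfin := ((Misc3Fib.finiteOfDegLE_iff p _).2 ⟨inferInstance, le_rfl⟩).2.1
  let R : CommRingCat.{u} := Γ(T, ⊤)
  letI : Algebra k R := BddFib.secAlgebra (CommRingCat.of k) p
  haveI : Module.Finite k R := hfin
  letI : ∀ t : T, Algebra k ↑(T.presheaf.stalk t) := fun t =>
    ((T.presheaf.germ ⊤ t trivial).hom.comp (algebraMap k R)).toAlgebra
  let φ : R →ₐ[k] ((t : T) → ↑(T.presheaf.stalk t)) :=
    { RingHom.pi fun t : T => (T.presheaf.germ ⊤ t trivial).hom with commutes' := fun a => rfl }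
  have hφ : Function.Bijective φ := PropsBasic2.bijective_pi_germ T
  haveI : ∀ t : T, Module.Finite k ↑(T.presheaf.stalk t) := fun t =>
    Module.Finite.of_surjective ((Pi.evalAlgHom k _ t).comp φ).toLinearMap
      ((Function.surjective_eval t).comp hφ.2)
  have key : ∀ t : T, (Module.length ↑(T.presheaf.stalk t) ↑(T.presheaf.stalk t)).toNat *
      p.residueDegree t = Module.finrank k ↑(T.presheaf.stalk t) := fun t => by
    letI : Algebra k (T.residueField t) :=
      ((T.residue t).hom.comp (algebraMap k ↑(T.presheaf.stalk t))).toAlgebra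
    haveI : IsLocalHom (algebraMap k ↑(T.presheaf.stalk t)) :=
      ⟨fun a ha => isUnit_iff_ne_zero.2 fun h0 => not_isUnit_zero (by rwa [h0, map_zero] at ha)⟩
    haveI : Module.Finite k (T.residueField t) :=
      Module.Finite.of_surjective
        (AlgHom.mk (T.residue t).hom (fun _ => rfl) :
          ↑(T.presheaf.stalk t) →ₐ[k] T.residueField t).toLinearMap (T.residue_surjective t)
    have hdeg : p.residueDegree t = Module.finrank k (T.residueField t) := by
      letI : Algebra ((Spec (CommRingCat.of k)).residueField (p t)) (T.residueField t) :=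
        (p.residueFieldMap t).hom.toAlgebra
      show Module.finrank ((Spec (CommRingCat.of k)).residueField (p t)) (T.residueField t) = _
      refine (Algebra.finrank_eq_of_equiv_equiv
        (RingEquiv.ofBijective _ (Misc3Fib.bijective_evaluation_spec (p t))) (RingEquiv.refl _) ?_).symm
      ext a
      exact Scheme.Γevaluation_naturality_apply p t _
    have h := IsLocalRing.length_restrictScalars k ↑(T.presheaf.stalk t) ↑(T.presheaf.stalk t)
    rw [Module.length_eq_finrank] at h
    have h2 : Module.length (ResidueField k) (ResidueField ↑(T.presheaf.stalk t)) =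
        Module.length k (T.residueField t) :=
      (Module.length_eq_of_surjective (M := ResidueField ↑(T.presheaf.stalk t))
        (residue_surjective (R := k))).symm
    rw [h2, Module.length_eq_finrank k (T.residueField t)] at h
    rw [hdeg, ← ENat.toNat_natCast (Module.finrank k ↑(T.presheaf.stalk t)), h, ENat.toNat_mul,
      ENat.toNat_natCast]
  rw [finsum_eq_sum_of_fintype, Finset.sum_congr rfl fun t _ => key t, ← Module.finrank_pi_fintype k,
    ← (AlgEquiv.ofBijective φ hφ).toLinearEquiv.finrank_eq, Misc6.GenericDegree.finrank_eq_appTop k p z]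
  rfl

end Field

lemma fibLength_asFiber (π : X ⟶ Y) (b : Y) (t : π.fiber b) :
    Module.length ↑((π.fiber b).presheaf.stalk t) ↑((π.fiber b).presheaf.stalk t) =
      fibLength π (π.fiberι b t) := by
  obtain ⟨hsurj, hker⟩ := FibCrit.fiber_stalk_of_eq π b t _ rfl
  let φ := ((X.presheaf.stalkCongr (.of_eq rfl)).inv ≫ (π.fiberι b).stalkMap t).hom
  let := φ.toAlgebra
  rw [fibLength, ← hker, ← Module.length_eq_of_surjective (S := X.presheaf.stalk (π.fiberι b t))
    (R := (π.fiber b).presheaf.stalk t) (M := (π.fiber b).presheaf.stalk t) hsurj]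
  exact (Ideal.quotientKerAlgEquivOfSurjective
    (f := Algebra.ofId (X.presheaf.stalk (π.fiberι b t)) ((π.fiber b).presheaf.stalk t))
    hsurj).toLinearEquiv.length_eq.symm

lemma surjective_residueFieldMap_of_stalkMap (f : X ⟶ Y) (x : X)
    (h : Function.Surjective (f.stalkMap x)) : Function.Surjective (f.residueFieldMap x) := fun z => by
  obtain ⟨z, rfl⟩ := IsLocalRing.residue_surjective z
  obtain ⟨w, rfl⟩ := h z
  exact ⟨IsLocalRing.residue _ w, IsLocalRing.ResidueField.map_residue (f.stalkMap x).hom w⟩

lemma residueDegree_fiber (π : X ⟶ Y) (b : Y) (t : π.fiber b) :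
    (π.fiberToSpecResidueField b).residueDegree t = π.residueDegree (π.fiberι b t) := by
  have h : (π.fiberι b ≫ π).residueDegree t =
      (π.fiberToSpecResidueField b ≫ Y.fromSpecResidueField b).residueDegree t := by
    rw [Scheme.Hom.fiber_fac]
  rw [Groth.Cycles.residueDegree_comp, Groth.Cycles.residueDegree_comp,
    Misc13.NormSection.residueDegree_eq_one_of_surjective (π.fiberι b) t
      (surjective_residueFieldMap_of_stalkMap _ _ ((π.fiberι b).stalkMap_surjective t)),
    Misc13.NormSection.residueDegree_eq_one_of_surjective (Y.fromSpecResidueField b) _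
      (surjective_residueFieldMap_of_stalkMap _ _
        ((Y.fromSpecResidueField b).stalkMap_surjective _)), one_mul, mul_one] at h
  exact h.symm

/-- The fibre integral of length times inseparable degree is the rank of the fibre, when finite. -/
theorem fibreIntegral_flatWeight_of_finite {U V : Scheme.{u}} (π : U ⟶ V) (v : V)
    [IsFinite (π.fiberToSpecResidueField v : π.fiber v ⟶ Spec (CommRingCat.of (V.residueField v)))]
    (z : ↥(Spec (CommRingCat.of (V.residueField v)))) :
    MoreMor.fibreIntegral π (fun u => ((fibLength π u).toNat : ℤ) * insepDeg π u) v =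
      (π.fiberToSpecResidueField v : π.fiber v ⟶ Spec (CommRingCat.of (V.residueField v))).finrank z := by
  let p : π.fiber v ⟶ Spec (CommRingCat.of (V.residueField v)) := π.fiberToSpecResidueField v
  haveI : IsFinite p := ‹_›
  obtain ⟨hTf, -⟩ := Misc3Fib.finite_discrete_of_isFinite p
  haveI := Fintype.ofFinite (π.fiber v)
  let e : π.fiber v ≃ {u : U // π u = v} := (π.fiberHomeo v).toEquiv.trans (Equiv.setCongr rfl)
  haveI : Fintype {u : U // π u = v} := Fintype.ofEquiv _ e
  rw [← finsum_length_mul_residueDegree p z, MoreMor.fibreIntegral, finsum_eq_sum_of_fintype,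
    finsum_eq_sum_of_fintype, Nat.cast_sum, ← e.sum_comp]
  refine Finset.sum_congr rfl fun t _ => ?_
  have he : (e t).1 = π.fiberι v t := Scheme.Hom.fiberHomeo_apply π v t
  rw [fibLength_asFiber, residueDegree_fiber, he, mul_assoc, Nat.cast_mul]
  congr 1
  let := (π.residueFieldMap (π.fiberι v t)).hom.toAlgebra
  rw [← Nat.cast_mul]
  congr 1
  rw [mul_comm]
  exact Field.finSepDegree_mul_finInsepDegree _ _

/-- The fibre integral of length times inseparable degree is the rank. -/
theorem fibreIntegral_flatWeight {U V : Scheme.{u}} (π : U ⟶ V) [Flat π] [IsFinite π] (v : V) :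
    MoreMor.fibreIntegral π (fun u => ((fibLength π u).toNat : ℤ) * insepDeg π u) v = π.finrank v := by
  haveI : IsFinite (π.fiberToSpecResidueField v :
      π.fiber v ⟶ Spec (CommRingCat.of (V.residueField v))) :=
    MorphismProperty.pullback_snd (P := @IsFinite) π (V.fromSpecResidueField v) ‹_›
  rw [fibreIntegral_flatWeight_of_finite π v (IsLocalRing.closedPoint _)]
  exact congrArg Nat.cast ((Scheme.Hom.finrank_pullback_snd π (V.fromSpecResidueField v) _).trans
    (congrArg π.finrank (V.fromSpecResidueField_apply v _)))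

/-- Length times inseparable degree is a weighting of a flat locally quasi-finite morphism. -/
theorem isWeighting_flatWeight (f : X ⟶ Y) [LocallyQuasiFinite f] [Flat f]
    [LocallyOfFinitePresentation f] :
    MoreMor.IsWeighting f (fun x => ((fibLength f x).toNat : ℤ) * insepDeg f x) := by
  intro V g _ U hU
  let π := U.ι ≫ pullback.snd f g
  let q := U.ι ≫ pullback.fst f g
  have w : q ≫ f = π ≫ g := by simp only [q, π, Category.assoc, pullback.condition]
  have : Etale q := inferInstance
  have key : (fun u => ((fibLength f (q u)).toNat : ℤ) * insepDeg f (q u)) =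
      fun u => ((fibLength π u).toNat : ℤ) * insepDeg π u := funext fun u => by
    rw [fibLength_of_etale w u, insepDeg_of_etale w u]
  have : Flat π := inferInstance
  have : LocallyOfFinitePresentation π := inferInstance
  change IsLocallyConstant (MoreMor.fibreIntegral π (fun u => ((fibLength f (q u)).toNat : ℤ) * insepDeg f (q u)))
  rw [key, funext (fibreIntegral_flatWeight π)]
  exact π.isLocallyConstant_finrank.comp _

/-- Length times inseparable degree is positive. -/
theorem flatWeight_pos (f : X ⟶ Y) [LocallyQuasiFinite f] [LocallyOfFiniteType f] (x : X) :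
    0 < ((fibLength f x).toNat : ℤ) * insepDeg f x := by
  have hins : 0 < insepDeg f x := by
    let := (f.residueFieldMap x).hom.toAlgebra
    have : Module.Finite (Y.residueField (f x)) (X.residueField x) :=
      Flatmor4.finite_residueFieldMap f (f.quasiFiniteAt x)
    exact Nat.pos_of_ne_zero (NeZero.ne (Field.finInsepDegree (Y.residueField (f x)) (X.residueField x)))
  let t := f.asFiber x
  have ht : f.fiberι (f x) t = x := f.fiberι_asFiber x
  have h1 : fibLength f x = Module.length ↑((f.fiber (f x)).presheaf.stalk t)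
      ↑((f.fiber (f x)).presheaf.stalk t) := by rw [fibLength_asFiber, ht]
  have hdisc : DiscreteTopology (f.fiber (f x)) := inferInstance
  have hW : IsAffineOpen (⟨{t}, isOpen_discrete _⟩ : (f.fiber (f x)).Opens) := by
    obtain ⟨_, ⟨U, hU, rfl⟩, htU, hUt⟩ := (f.fiber (f x)).isBasis_affineOpens.exists_subset_of_mem_open
      (Set.mem_singleton t) (isOpen_discrete {t})
    exact (TopologicalSpace.Opens.ext (Set.Subset.antisymm hUt (Set.singleton_subset_iff.mpr htU)) :
      U = (⟨{t}, isOpen_discrete _⟩ : (f.fiber (f x)).Opens)) ▸ hU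
  have : IsArtinianRing Γ(f.fiber (f x), ⟨{t}, isOpen_discrete _⟩) :=
    IsLocallyArtinian.isArtinianRing_presheaf_obj ⟨_, hW⟩
  have : IsArtinianRing ↑((f.fiber (f x)).presheaf.stalk t) :=
    (RingEquiv.ofBijective _ (PropsBasic2.germ_bijective_singleton (f.fiber (f x)) t)).isArtinianRing
  have hfin : IsFiniteLength ↑((f.fiber (f x)).presheaf.stalk t) ↑((f.fiber (f x)).presheaf.stalk t) :=
    isFiniteLength_iff_isNoetherian_isArtinian.mpr ⟨inferInstance, inferInstance⟩
  have hne : fibLength f x ≠ ⊤ := h1 ▸ Module.length_ne_top_iff.mpr hfin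
  have hpos : fibLength f x ≠ 0 := h1 ▸ (Module.length_pos_iff.mpr inferInstance).ne'
  have : 0 < (fibLength f x).toNat := Nat.pos_of_ne_zero fun h => (ENat.toNat_eq_zero.mp h).elim hpos hne
  positivity

end Groth.FlatMor2
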