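import Groth.Agent.FlatMor2.Weighting.Main
import Groth.Agent.EtaleBase.FpqcDescent
import Mathlib.Topology.Semicontinuity.Defs

/-!
# Weightings: composition, universal openness, semicontinuity, finiteness over the top stratum
-/

set_option autoImplicit false

universe u

open CategoryTheory CategoryTheory.Limits AlgebraicGeometry Topology Filter

namespace Groth.FlatMor2

variable {X Y Z : Scheme.{u}}

@[reassoc]
lemma pullMap_fst (f : X ⟶ Y) {V V' : Scheme.{u}} {k : V ⟶ Y} {k' : V' ⟶ Y} (a : V' ⟶ V)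
    (h : a ≫ k = k') : pullMap f a h ≫ pullback.fst f k = pullback.fst f k' :=
  pullback.lift_fst _ _ _

@[reassoc]
lemma pullMap_snd (f : X ⟶ Y) {V V' : Scheme.{u}} {k : V ⟶ Y} {k' : V' ⟶ Y} (a : V' ⟶ V)
    (h : a ≫ k = k') : pullMap f a h ≫ pullback.snd f k = pullback.snd f k' ≫ a :=
  pullback.lift_snd _ _ _

@[reassoc]
lemma pullPush_fst (f : X ⟶ Y) (g : Y ⟶ Z) {V : Scheme.{u}} (k : V ⟶ Z) :
    pullPush f g k ≫ pullback.fst g k = pullback.fst (f ≫ g) k ≫ f :=
  pullback.lift_fst _ _ _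

@[reassoc]
lemma pullPush_snd (f : X ⟶ Y) (g : Y ⟶ Z) {V : Scheme.{u}} (k : V ⟶ Z) :
    pullPush f g k ≫ pullback.snd g k = pullback.snd (f ≫ g) k :=
  pullback.lift_snd _ _ _

section

variable (f : X ⟶ Y) (g : Y ⟶ Z) [LocallyQuasiFinite f] [LocallyOfFiniteType f]
  [LocallyQuasiFinite g] [LocallyOfFiniteType g] (wf : X → ℤ) (wg : Y → ℤ)
  (hf : MoreMor.IsWeighting f wf) (hg : MoreMor.IsWeighting g wg)

include hf hg in
lemma comp_piece {V : Scheme.{u}} (k : V ⟶ Z) (v : V)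
    (C : (pullback (f ≫ g) k).Opens) [IsFinite (C.ι ≫ pullback.snd (f ≫ g) k)]
    (z : ↑(pullback (f ≫ g) k)) (hzv : pullback.snd (f ≫ g) k z = v)
    (hz : ∀ x ∈ C, pullback.snd (f ≫ g) k x = v → x = z) (hzC : z ∈ C)
    (B : (pullback g k).Opens) [IsFinite (B.ι ≫ pullback.snd g k)] (hzB : pullPush f g k z ∈ B) :
    ∀ᶠ t in 𝓝 v, openIntegral (pullback.snd (f ≫ g) k) C (fun x => wf (pullback.fst (f ≫ g) k x) *
      wg (f (pullback.fst (f ≫ g) k x))) t = openIntegral (pullback.snd (f ≫ g) k) C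
      (fun x => wf (pullback.fst (f ≫ g) k x) * wg (f (pullback.fst (f ≫ g) k x))) v := by
  obtain ⟨N, hN, hNo, hvN⟩ := eventually_nhds_iff.mp
    (eventually_subset (pullback.snd (f ≫ g) k) v C (pullPush f g k ⁻¹ᵁ B)
      fun x hx hxv => (hz x hx hxv).symm ▸ hzB)
  let N' : V.Opens := ⟨N, hNo⟩
  let qC := pullMap (f ≫ g) N'.ι (rfl : N'.ι ≫ k = N'.ι ≫ k)
  let qB := pullMap g N'.ι (rfl : N'.ι ≫ k = N'.ι ≫ k)
  have hcomm : pullPush f g (N'.ι ≫ k) ≫ qB = qC ≫ pullPush f g k := by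
    apply pullback.hom_ext
    · simp only [qB, qC, Category.assoc, pullMap_fst, pullPush_fst, pullMap_fst_assoc]
    · simp only [qB, qC, Category.assoc, pullMap_snd, pullPush_snd, pullPush_snd_assoc]
  have hqC := isPullback_pullMap (f ≫ g) N'.ι (rfl : N'.ι ≫ k = N'.ι ≫ k)
  obtain ⟨hfinC, hintC⟩ := openIntegral_baseChange hqC C
  have := (openIntegral_baseChange (isPullback_pullMap g N'.ι (rfl : N'.ι ≫ k = N'.ι ≫ k)) B).1
  obtain ⟨z', hz', hz'v⟩ := exists_preimage_of_isPullback hqC (y := (⟨v, hvN⟩ : N')) hzv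
  have : IsOpenImmersion qC := MorphismProperty.of_isPullback hqC.flip inferInstance
  have hCB : qC ⁻¹ᵁ C ≤ pullPush f g (N'.ι ≫ k) ⁻¹ᵁ (qB ⁻¹ᵁ B) := fun x hx => by
    show qB (pullPush f g (N'.ι ≫ k) x) ∈ B
    rw [← Scheme.Hom.comp_apply, hcomm, Scheme.Hom.comp_apply]
    refine hN _ ?_ (qC x) hx rfl
    rw [snd_pullMap]
    exact (pullback.snd (f ≫ g) (N'.ι ≫ k) x).2
  have key := comp_piece_aux f g wf wg hf hg (N'.ι ≫ k) ⟨v, hvN⟩ (qC ⁻¹ᵁ C) z'
    (fun x hx hxv => qC.isOpenEmbedding.injective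
      ((hz _ hx (by rw [snd_pullMap, hxv]; rfl)).trans hz'.symm)) (qB ⁻¹ᵁ B) hCB
    (show qC z' ∈ C from hz'.symm ▸ hzC)
  have hI : ∀ t : N', openIntegral (pullback.snd (f ≫ g) (N'.ι ≫ k)) (qC ⁻¹ᵁ C)
      (fun x => wf (pullback.fst (f ≫ g) (N'.ι ≫ k) x) *
        wg (f (pullback.fst (f ≫ g) (N'.ι ≫ k) x))) t =
      openIntegral (pullback.snd (f ≫ g) k) C (fun x => wf (pullback.fst (f ≫ g) k x) *
        wg (f (pullback.fst (f ≫ g) k x))) (N'.ι t) := fun t => by
    rw [← hintC]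
    congr 1
    funext x
    rw [fst_pullMap]
  simp only [hI] at key
  rw [← show N'.ι ⟨v, hvN⟩ = v from rfl, ← N'.ι.isOpenEmbedding.map_nhds_eq, Filter.eventually_map]
  exact key

include hf hg in
/-- The product of weightings is a weighting of the composition. -/
theorem isWeighting_comp : MoreMor.IsWeighting (f ≫ g) (fun x => wf x * wg (f x)) := by
  intro V k _ U hU
  change IsLocallyConstant (openIntegral (pullback.snd (f ≫ g) k) U
    (fun x => wf (pullback.fst (f ≫ g) k x) * wg (f (pullback.fst (f ≫ g) k x))))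
  refine (IsLocallyConstant.iff_eventually_eq _).mpr fun v => ?_
  let s := pullback.fst (f ≫ g) k '' ((U : Set ↑(pullback (f ≫ g) k)) ∩ pullback.snd (f ≫ g) k ⁻¹' {v})
  have hs : s.Finite := by
    refine Set.Finite.image _ ((((U.ι ≫ pullback.snd (f ≫ g) k).finite_preimage_singleton v).image
      U.ι).subset ?_)
    rintro x ⟨hx, hxv⟩
    exact ⟨⟨x, hx⟩, by simpa using hxv, rfl⟩
  have hsy : ∀ x ∈ s, (f ≫ g) x = k v := by
    rintro _ ⟨x, ⟨-, rfl⟩, rfl⟩
    exact congr($(pullback.condition (f := f ≫ g) (g := k)) x)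
  obtain ⟨V₁, a, v₁, ha, hav, J, _, C, hinjC, hmemC, hcovC, -⟩ :=
    exists_pieces_over (f ≫ g) k v s hs hsy
  obtain ⟨V₂, b, v₂, hb, hbv, J₂, _, B, -, -, hcovB, -⟩ :=
    exists_pieces_over g (a ≫ k) v₁ (f '' s) (hs.image f) (by
      rintro _ ⟨x, hx, rfl⟩
      rw [← Scheme.Hom.comp_apply, hsy x hx, Scheme.Hom.comp_apply, hav])
  choose C' hC' hC'p using fun j => (C j).exists_baseChange b (rfl : b ≫ a ≫ k = b ≫ a ≫ k) v₂ hbv
  let q := pullMap (f ≫ g) (b ≫ a) (Category.assoc b a k)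
  have hq := isPullback_pullMap (f ≫ g) (b ≫ a) (Category.assoc b a k)
  obtain ⟨hfin, hint⟩ := openIntegral_baseChange hq U
  let w2 : ↑(pullback (f ≫ g) (b ≫ a ≫ k)) → ℤ := fun x =>
    wf (pullback.fst (f ≫ g) (b ≫ a ≫ k) x) * wg (f (pullback.fst (f ≫ g) (b ≫ a ≫ k) x))
  let J' := {j : J // (C' j).pt ∈ q ⁻¹ᵁ U}
  have hkey := eventually_openIntegral_eq (pullback.snd (f ≫ g) (b ≫ a ≫ k)) v₂ (q ⁻¹ᵁ U)
    (fun j : J' => (C' j.1).opens) (fun j => (C' j.1).finite)
    (fun j x hx hxv => (C' j.1).eq_pt x hx hxv ▸ j.2)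
    (fun x hx hxv => by
      have h1 : pullback.fst (f ≫ g) (a ≫ k) (pullMap (f ≫ g) b rfl x) ∈ s := by
        rw [fst_pullMap]
        exact ⟨q x, ⟨hx, by rw [Set.mem_preimage, snd_pullMap, hxv, Scheme.Hom.comp_apply, hbv, hav]; rfl⟩,
          fst_pullMap _ _ _ x⟩
      obtain ⟨j, hj⟩ := hcovC _ (by rw [snd_pullMap, hxv, hbv]) h1
      have hxC : x ∈ (C' j).opens := by
        rw [hC']
        exact (show pullMap (f ≫ g) b rfl x ∈ (C j).opens from hj ▸ (C j).pt_mem)
      exact ⟨⟨j, (C' j).eq_pt x hxC hxv ▸ hx⟩, hxC⟩)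
    (fun i j hij x hxv hi hj => hij (Subtype.ext (hinjC (by
      dsimp only
      rw [← hC'p, ← hC'p, ← (C' i.1).eq_pt x hi hxv, ← (C' j.1).eq_pt x hj hxv]))))
    w2
  have hconst : ∀ᶠ t in 𝓝 v₂, ∀ j : J', openIntegral (pullback.snd (f ≫ g) (b ≫ a ≫ k))
      (C' j.1).opens w2 t = openIntegral (pullback.snd (f ≫ g) (b ≫ a ≫ k)) (C' j.1).opens w2 v₂ :=
    Filter.eventually_all.mpr fun j => by
      have hf1 : pullback.fst g (b ≫ a ≫ k) (pullPush f g (b ≫ a ≫ k) (C' j.1).pt) ∈ f '' s := by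
        rw [fst_pullPush]
        refine ⟨_, ?_, rfl⟩
        rw [← fst_pullMap (f ≫ g) b rfl, hC'p]
        exact hmemC j.1
      obtain ⟨i, hi⟩ := hcovB _ (by rw [snd_pullPush, (C' j.1).snd_pt]) hf1
      have := (C' j.1).finite
      have := (B i).finite
      exact comp_piece f g wf wg hf hg _ v₂ (C' j.1).opens (C' j.1).pt (C' j.1).snd_pt
        (C' j.1).eq_pt (C' j.1).pt_mem (B i).opens (hi ▸ (B i).pt_mem)
  let I := openIntegral (pullback.snd (f ≫ g) k) U
    (fun x => wf (pullback.fst (f ≫ g) k x) * wg (f (pullback.fst (f ≫ g) k x)))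
  have hint' : ∀ t, openIntegral (pullback.snd (f ≫ g) (b ≫ a ≫ k)) (q ⁻¹ᵁ U) w2 t = I ((b ≫ a) t) :=
    fun t => by
      simp only [I]
      rw [← hint]
      congr 1
      funext x
      rw [fst_pullMap]
  have hev : ∀ᶠ t in 𝓝 v₂, I ((b ≫ a) t) = I v := by
    have h0 := hkey.self_of_nhds
    filter_upwards [hkey, hconst] with t ht htc
    rw [← hint', ht, finsum_congr htc, ← h0, hint', Scheme.Hom.comp_apply, hbv, hav]
  obtain ⟨N, hN, hNo, hvN⟩ := eventually_nhds_iff.mp hev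
  refine Filter.mem_of_superset (((b ≫ a).isOpenMap _ hNo).mem_nhds
    ⟨v₂, hvN, by rw [Scheme.Hom.comp_apply, hbv, hav]⟩) ?_
  rintro _ ⟨t, ht, rfl⟩
  exact hN t ht

end

section Positive

variable (f : X ⟶ Y) [LocallyQuasiFinite f] [LocallyOfFiniteType f] (w : X → ℤ)
  (hw : MoreMor.IsWeighting f w) (hpos : ∀ x, 0 < w x)

include hw hpos in
lemma isOpenMap_of_weighting : IsOpenMap f := by
  intro W hW
  rw [isOpen_iff_mem_nhds]
  rintro _ ⟨x, hx, rfl⟩
  obtain ⟨V, k, v, hk, hkv, J, _, Q, -, hmem, hcov⟩ :=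
    exists_pieces f (f x) {x} (Set.finite_singleton x) (by simp)
  obtain ⟨z, hzx, hzv⟩ := Scheme.Pullback.exists_preimage_pullback (f := f) (g := k) x v hkv.symm
  obtain ⟨j, -⟩ := hcov z hzv hzx
  have := (Q j).finite
  have h1 := (IsLocallyConstant.iff_eventually_eq _).mp
    (isLocallyConstant_openIntegral f w hw k (Q j).opens) v
  have h2 := eventually_subset (pullback.snd f k) v (Q j).opens
    (pullback.fst f k ⁻¹ᵁ ⟨W, hW⟩) fun y hy hyv => by
      show pullback.fst f k y ∈ W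
      rw [(Q j).eq_pt y hy hyv, Set.mem_singleton_iff.mp (hmem j)]
      exact hx
  obtain ⟨N, hN, hNo, hvN⟩ := eventually_nhds_iff.mp (h1.and h2)
  refine Filter.mem_of_superset ((k.isOpenMap _ hNo).mem_nhds ⟨v, hvN, hkv⟩) ?_
  rintro _ ⟨t, ht, rfl⟩
  obtain ⟨h1, h2⟩ := hN t ht
  rw [Piece.openIntegral_self] at h1
  obtain ⟨y, hy, hyt⟩ : ∃ y ∈ (Q j).opens, pullback.snd f k y = t := by
    by_contra! H
    rw [openIntegral, fibreIntegral_eq_zero ((Q j).opens.ι ≫ pullback.snd f k) _ t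
      (fun c hc => H _ c.2 (by simpa using hc))] at h1
    exact (hpos _).ne h1
  exact ⟨pullback.fst f k y, h2 y hy hyt,
    (congr($(pullback.condition (f := f) (g := k)) y)).trans (congrArg k hyt)⟩

include hw hpos in
/-- A morphism with a positive weighting is universally open. -/
theorem universallyOpen_of_weighting : UniversallyOpen f := by
  rw [universallyOpen_iff]
  intro X' Y' i₁ i₂ f' hc
  have : LocallyQuasiFinite f' := MorphismProperty.of_isPullback hc.flip ‹_›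
  have : LocallyOfFiniteType f' := MorphismProperty.of_isPullback hc.flip ‹_›
  exact isOpenMap_of_weighting f' (w ∘ ⇑i₁) (isWeighting_baseChange f w hw f' i₁ i₂ hc.flip)
    fun x => hpos _

include hw hpos in
/-- Positive weightings are upper semicontinuous. -/
theorem upperSemicontinuous_weighting : UpperSemicontinuous w := by
  intro x c hxc
  obtain ⟨V, k, v, hk, hkv, J, _, Q, -, hmem, hcov⟩ :=
    exists_pieces f (f x) {x} (Set.finite_singleton x) (by simp)
  obtain ⟨z, hzx, hzv⟩ := Scheme.Pullback.exists_preimage_pullback (f := f) (g := k) x v hkv.symm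
  obtain ⟨j, -⟩ := hcov z hzv hzx
  have := (Q j).finite
  have hx0 : pullback.fst f k (Q j).pt = x := Set.mem_singleton_iff.mp (hmem j)
  obtain ⟨N, hN, hNo, hvN⟩ := eventually_nhds_iff.mp ((IsLocallyConstant.iff_eventually_eq _).mp
    (isLocallyConstant_openIntegral f w hw k (Q j).opens) v)
  let O : Set ↑(pullback f k) := ((Q j).opens : Set _) ∩ pullback.snd f k ⁻¹' N
  have hO : IsOpen O := (Q j).opens.2.inter (hNo.preimage (pullback.snd f k).continuous)
  refine Filter.mem_of_superset (((pullback.fst f k).isOpenMap _ hO).mem_nhds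
    ⟨(Q j).pt, ⟨(Q j).pt_mem, by rw [Set.mem_preimage, (Q j).snd_pt]; exact hvN⟩, hx0⟩) ?_
  rintro _ ⟨y, ⟨hy, hyN⟩, rfl⟩
  have h1 := hN _ hyN
  rw [Piece.openIntegral_self, hx0] at h1
  let vb := algClosurePt (pullback.snd f k y)
  obtain ⟨σ, hσ, hσy⟩ := exists_mem_openPts (pullback.snd f k) (Q j).opens vb hy
    (ptOf_algClosurePt _).symm
  rw [openIntegral_eq_sum (pullback.snd f k) (Q j).opens vb _ (ptOf_algClosurePt _),
    finsum_mem_eq_finite_toFinset_sum _ (finite_openPts _ _ vb)] at h1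
  refine lt_of_le_of_lt ?_ hxc
  rw [← h1]
  refine le_of_eq_of_le (congrArg (fun z => w (pullback.fst f k z)) hσy).symm ?_
  exact Finset.single_le_sum (f := fun τ : GeomPt (pullback.snd f k) vb =>
    w (pullback.fst f k (ptOf τ.1))) (fun τ _ => (hpos _).le) ((Set.Finite.mem_toFinset _).mpr hσ)

variable [IsSeparated f] (hfin : ∀ y : Y, (f ⁻¹' {y}).Finite)

include hw hpos hfin in
/-- Near any point the total integral is at least its value there, with equality only if the pieces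
exhaust the fibres. -/
lemma exists_exhaust (y : Y) :
    ∃ (V : Scheme.{u}) (k : V ⟶ Y) (v : V), Etale k ∧ k v = y ∧ ∃ (J : Type) (_ : Finite J)
      (Q : J → Piece f k v), ∀ᶠ t in 𝓝 v,
        MoreMor.fibreIntegral f w y ≤ MoreMor.fibreIntegral f w (k t) ∧
        (MoreMor.fibreIntegral f w (k t) = MoreMor.fibreIntegral f w y →
          ∀ x, pullback.snd f k x = t → ∃ j, x ∈ (Q j).opens) := by
  classical
  obtain ⟨V, k, v, hk, hkv, J, _, Q, hinj, hmem, hcov⟩ :=
    exists_pieces f y (f ⁻¹' {y}) (hfin y) fun x hx => hx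
  have hfinQ := fun j => (Q j).finite
  have h1 : ∀ᶠ t in 𝓝 v, ∀ j, openIntegral (pullback.snd f k) (Q j).opens
      (fun x => w (pullback.fst f k x)) t = openIntegral (pullback.snd f k) (Q j).opens
      (fun x => w (pullback.fst f k x)) v :=
    Filter.eventually_all.mpr fun j => (IsLocallyConstant.iff_eventually_eq _).mp
      (isLocallyConstant_openIntegral f w hw k (Q j).opens) v
  have h2 : ∀ᶠ t in 𝓝 v, ∀ i j, i ≠ j → ∀ x, pullback.snd f k x = t → x ∈ (Q i).opens →
      x ∉ (Q j).opens :=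
    Filter.eventually_all.mpr fun i => Filter.eventually_all.mpr fun j => by
      by_cases hij : i = j
      · exact .of_forall fun t h => absurd hij h
      exact (eventually_disjoint (pullback.snd f k) v (Q i).opens (Q j).opens ⊤
        (fun _ _ _ => trivial) (fun _ _ _ => trivial) fun x hxv hi hj => hij (hinj
          (((Q i).eq_pt x hi hxv).symm.trans ((Q j).eq_pt x hj hxv)))).mono fun t h _ => h
  refine ⟨V, k, v, hk, hkv, J, inferInstance, Q, ?_⟩
  have main : ∀ t, (∀ i j, i ≠ j → ∀ x, pullback.snd f k x = t → x ∈ (Q i).opens →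
      x ∉ (Q j).opens) →
      (∑ᶠ j, openIntegral (pullback.snd f k) (Q j).opens (fun x => w (pullback.fst f k x)) t) ≤
        MoreMor.fibreIntegral f w (k t) ∧
      ((∑ᶠ j, openIntegral (pullback.snd f k) (Q j).opens (fun x => w (pullback.fst f k x)) t) =
        MoreMor.fibreIntegral f w (k t) ↔ ∀ x, pullback.snd f k x = t → ∃ j, x ∈ (Q j).opens) := by
    intro t hdisj
    let vb := algClosurePt t
    have hv : ptOf (vb ≫ k) = k t := by rw [ptOf_comp, ptOf_algClosurePt]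
    have := finite_geomPt f (vb ≫ k) (hfin _)
    have := Finite.of_equiv _ (geomPtBaseChange (IsPullback.of_hasPullback f k) vb).symm
    have := Fintype.ofFinite (GeomPt (pullback.snd f k) vb)
    rw [← fibreIntegral_baseChange (IsPullback.of_hasPullback f k) w t (hfin _),
      fibreIntegral_eq_sum _ vb _ (ptOf_algClosurePt t),
      finsum_eq_sum_of_fintype (fun σ : GeomPt (pullback.snd f k) vb => (w ∘ ⇑(pullback.fst f k)) (ptOf σ.1))]
    have hsum : (∑ᶠ j, openIntegral (pullback.snd f k) (Q j).opens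
        (fun x => w (pullback.fst f k x)) t) =
        ∑ σ ∈ (⋃ j, openPts (pullback.snd f k) (Q j).opens vb).toFinset,
          (w ∘ ⇑(pullback.fst f k)) (ptOf σ.1) := by
      rw [← finsum_mem_eq_toFinset_sum, finsum_mem_iUnion (t := fun j => openPts _ (Q j).opens vb)
        (fun i j hij => Set.disjoint_left.mpr fun σ hi hj => hdisj i j hij _
          (σ.apply_ptOf.trans (ptOf_algClosurePt t)) hi hj) (fun j => Set.toFinite _)]
      exact finsum_congr fun j =>
        openIntegral_eq_sum _ (Q j).opens vb _ (ptOf_algClosurePt t)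
    rw [hsum]
    refine ⟨Finset.sum_le_univ_sum_of_nonneg fun σ => (hpos _).le, ?_, fun H => ?_⟩
    · intro heq x hx
      obtain ⟨σ, hσ⟩ := exists_geomPt_at (pullback.snd f k) vb x
        (hx.trans (ptOf_algClosurePt t).symm)
      by_contra hxQ
      refine absurd heq (ne_of_lt (Finset.sum_lt_sum_of_subset (i := σ) (Finset.subset_univ _)
        (Finset.mem_univ _) (fun h => hxQ ?_) (hpos _) fun τ _ _ => (hpos _).le))
      obtain ⟨j, hj⟩ := Set.mem_iUnion.mp (Set.mem_toFinset.mp h)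
      exact ⟨j, hσ ▸ hj⟩
    · refine Finset.sum_congr (Finset.eq_univ_iff_forall.mpr fun σ => Set.mem_toFinset.mpr
        (Set.mem_iUnion.mpr (H _ (σ.apply_ptOf.trans (ptOf_algClosurePt t))))) fun _ _ => rfl
  have heq0 : (∑ᶠ j, openIntegral (pullback.snd f k) (Q j).opens
      (fun x => w (pullback.fst f k x)) v) = MoreMor.fibreIntegral f w y := by
    rw [← hkv]
    refine (main v h2.self_of_nhds).2.mpr fun x hx => ?_
    obtain ⟨j, hj⟩ := hcov x hx
      ((congr($(pullback.condition (f := f) (g := k)) x)).trans (by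
        rw [Scheme.Hom.comp_apply, hx, hkv]))
    exact ⟨j, hj ▸ (Q j).pt_mem⟩
  filter_upwards [h1, h2] with t t1 t2
  obtain ⟨ht, ht'⟩ := main t t2
  rw [finsum_congr t1, heq0] at ht ht'
  exact ⟨ht, fun h => ht'.mp h.symm⟩

include hw hpos hfin in
/-- The fibre integral of a positive weighting of a separated morphism is lower semicontinuous. -/
theorem lowerSemicontinuous_fibreIntegral : LowerSemicontinuous (MoreMor.fibreIntegral f w) := by
  intro y c hc
  obtain ⟨V, k, v, hk, hkv, J, _, Q, hQ⟩ := exists_exhaust f w hw hpos hfin y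
  obtain ⟨N, hN, hNo, hvN⟩ := eventually_nhds_iff.mp hQ
  refine Filter.mem_of_superset ((k.isOpenMap _ hNo).mem_nhds ⟨v, hvN, hkv⟩) ?_
  rintro _ ⟨t, ht, rfl⟩
  exact lt_of_lt_of_le hc (hN t ht).1

include hw hpos hfin in
/-- Over the locus where the integral is maximal the morphism is finite. -/
theorem isFinite_over_max (d : ℤ) (hmax : ∀ y : Y, MoreMor.fibreIntegral f w y ≤ d) :
    ∃ hYd : IsOpen {y : ↑Y | MoreMor.fibreIntegral f w y = d},
      IsFinite (f ∣_ ⟨{y : ↑Y | MoreMor.fibreIntegral f w y = d}, hYd⟩) := by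
  have hopen : IsOpen {y : ↑Y | MoreMor.fibreIntegral f w y = d} := by
    have : {y : ↑Y | MoreMor.fibreIntegral f w y = d} = MoreMor.fibreIntegral f w ⁻¹' Set.Ioi (d - 1) := by
      ext y
      simp only [Set.mem_preimage, Set.mem_Ioi, Set.mem_ofPred_eq]
      exact ⟨fun h => by omega, fun h => le_antisymm (hmax y) (by omega)⟩
    exact this ▸ (lowerSemicontinuous_fibreIntegral f w hw hpos hfin).isOpen_preimage _
  refine ⟨hopen, ?_⟩
  set Yd : Y.Opens := ⟨_, hopen⟩
  refine IsZariskiLocalAtTarget.of_forall_exists_morphismRestrict (P := @IsFinite) ?_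
  rintro ⟨y, hy⟩
  obtain ⟨V, k, v, hk, hkv, J, _, Q, hQ⟩ := exists_exhaust f w hw hpos hfin y
  obtain ⟨N, hN, hNo, hvN⟩ := eventually_nhds_iff.mp hQ
  let N' : V.Opens := ⟨N, hNo⟩ ⊓ k ⁻¹ᵁ Yd
  let k' := N'.ι ≫ k
  let M : Y.Opens := ⟨Set.range k', k'.isOpenMap.isOpen_range⟩
  have hMle : M ≤ Yd := by rintro _ ⟨t, rfl⟩; exact t.2.2
  refine ⟨Yd.ι ⁻¹ᵁ M, show y ∈ M from ⟨⟨v, hvN, show k v ∈ Yd from hkv.symm ▸ hy⟩, hkv⟩, ?_⟩
  rw [MorphismProperty.arrow_mk_iso_iff @IsFinite (morphismRestrictRestrict f Yd (Yd.ι ⁻¹ᵁ M)),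
    show Yd.ι ''ᵁ (Yd.ι ⁻¹ᵁ M) = M by
      rw [Scheme.Hom.image_preimage_eq_opensRange_inf, Scheme.Opens.opensRange_ι]; exact inf_eq_right.mpr hMle]
  let q := IsOpenImmersion.lift M.ι k' (by rw [Scheme.Opens.range_ι]; rfl)
  have hq : q ≫ M.ι = k' := IsOpenImmersion.lift_fac _ _ _
  have : Etale q := by
    have : Etale (q ≫ M.ι) := by rw [hq]; infer_instance
    exact MorphismProperty.of_postcomp (W := @Etale) (W' := @IsOpenImmersion) q M.ι inferInstance this
  have : Surjective q := ⟨fun ⟨_, t, ht⟩ => ⟨t, M.ι.isOpenEmbedding.injective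
    ((congr($hq t)).trans ht)⟩⟩
  have hfinN : IsFinite (pullback.snd f k') := by
    let qN := pullMap f N'.ι (rfl : N'.ι ≫ k = k')
    have hc := isPullback_pullMap f N'.ι (rfl : N'.ι ≫ k = k')
    have htop : (⨆ j, qN ⁻¹ᵁ (Q j).opens) = ⊤ := by
      refine eq_top_iff.mpr fun x _ => TopologicalSpace.Opens.mem_iSup.mpr ?_
      obtain ⟨htN, htY⟩ := (pullback.snd f k' x).2
      refine (hN _ htN).2 (Eq.trans htY ?_) (qN x) (snd_pullMap f _ _ x)
      exact hy.symm
    have h2 := Flatmor4.isFinite_iSup (pullback.snd f k') (fun j => qN ⁻¹ᵁ (Q j).opens)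
      fun j => have := (Q j).finite; (openIntegral_baseChange hc (Q j).opens).1
    rw [htop, ← Scheme.topIso_hom, MorphismProperty.cancel_left_of_respectsIso @IsFinite] at h2
    exact h2
  have hpb : IsPullback (pullback.snd (f ∣_ M) q) (pullback.fst (f ∣_ M) q) q (f ∣_ M) :=
    (IsPullback.of_hasPullback _ _).flip
  refine MorphismProperty.of_isPullback_of_descendsAlong (Q := @Surjective ⊓ @Flat ⊓ @LocallyOfFinitePresentation)
    hpb ⟨⟨inferInstance, inferInstance⟩, inferInstance⟩ ?_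
  have h : IsPullback (pullback.fst (f ∣_ M) q ≫ (f ⁻¹ᵁ M).ι) (pullback.snd (f ∣_ M) q) f k' :=
    hq ▸ (IsPullback.of_hasPullback (f ∣_ M) q).paste_horiz (isPullback_morphismRestrict f M).flip
  have : pullback.snd (f ∣_ M) q = h.isoPullback.hom ≫ pullback.snd f k' :=
    h.isoPullback_hom_snd.symm
  rw [this]
  infer_instance

end Positive

end Groth.FlatMor2
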