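import Groth.Prelude.Def_MoreMor
import Groth.Agent.Flatmor4.QuasiFiniteSplit
import Mathlib.FieldTheory.SeparableDegree
import Mathlib.FieldTheory.PurelyInseparable.Basic

/-!
# Fibre integrals as sums over geometric points
-/

set_option autoImplicit false

universe u

open CategoryTheory CategoryTheory.Limits AlgebraicGeometry

namespace Groth.FlatMor2

variable {U V : Scheme.{u}} {Ω : Type u} [Field Ω]

/-- The lifts along `π` of a field-valued point of the base. -/
abbrev GeomPt (π : U ⟶ V) (vb : Spec (CommRingCat.of Ω) ⟶ V) :=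
  {σ : Spec (CommRingCat.of Ω) ⟶ U // σ ≫ π = vb}

/-- The image of a field-valued point. -/
noncomputable def ptOf (σ : Spec (CommRingCat.of Ω) ⟶ U) : U := σ default

lemma ptOf_comp {W : Scheme.{u}} (σ : Spec (CommRingCat.of Ω) ⟶ U) (p : U ⟶ W) :
    ptOf (σ ≫ p) = p (ptOf σ) := Scheme.Hom.comp_apply _ _ _

lemma GeomPt.apply_ptOf {π : U ⟶ V} {vb : Spec (CommRingCat.of Ω) ⟶ V} (σ : GeomPt π vb) :
    π (ptOf σ.1) = ptOf vb := by
  rw [← ptOf_comp, σ.2]

lemma exists_factor_at (vb : Spec (CommRingCat.of Ω) ⟶ V) {v : V} (hv : ptOf vb = v) :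
    ∃ ψ : V.residueField v ⟶ CommRingCat.of Ω, Spec.map ψ ≫ V.fromSpecResidueField v = vb := by
  obtain ⟨x, ψ, rfl⟩ := Flatmor4.exists_spec_field_factor vb
  obtain rfl : x = v := (Flatmor4.specMap_fromSpecResidueField_apply ψ default).symm.trans hv
  exact ⟨ψ, rfl⟩

/-- The field-valued point of a given point given by an algebraic closure of its residue field. -/
noncomputable def algClosurePt (v : V) :
    Spec (CommRingCat.of (AlgebraicClosure (V.residueField v))) ⟶ V :=
  Spec.map (CommRingCat.ofHom (algebraMap (V.residueField v) _)) ≫ V.fromSpecResidueField v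

lemma ptOf_algClosurePt (v : V) : ptOf (algClosurePt v) = v :=
  Flatmor4.specMap_fromSpecResidueField_apply _ _

/-- Lifts at a given point of the source correspond to extensions of the residue field embedding. -/
noncomputable def geomPtAtEquiv (π : U ⟶ V) {vb : Spec (CommRingCat.of Ω) ⟶ V} (u : U)
    (ψ : V.residueField (π u) ⟶ CommRingCat.of Ω)
    (hψ : Spec.map ψ ≫ V.fromSpecResidueField (π u) = vb) :
    {φ : U.residueField u ⟶ CommRingCat.of Ω // π.residueFieldMap u ≫ φ = ψ} ≃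
      {σ : GeomPt π vb // ptOf σ.1 = u} :=
  Equiv.ofBijective
    (fun φ => ⟨⟨Spec.map φ.1 ≫ U.fromSpecResidueField u, by
      rw [Category.assoc, ← Scheme.Hom.SpecMap_residueFieldMap_fromSpecResidueField,
        ← Spec.map_comp_assoc, φ.2, hψ]⟩, Flatmor4.specMap_fromSpecResidueField_apply _ _⟩)
    ⟨fun φ φ' h => Subtype.ext
      (Flatmor4.specMap_fromSpecResidueField_inj (congrArg (fun σ => σ.1.1) h)), fun σ => by
      obtain ⟨φ, hφ⟩ := exists_factor_at σ.1.1 σ.2
      refine ⟨⟨φ, Flatmor4.specMap_fromSpecResidueField_inj ?_⟩, Subtype.ext (Subtype.ext hφ)⟩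
      rw [hψ, Spec.map_comp, Category.assoc,
        Scheme.Hom.SpecMap_residueFieldMap_fromSpecResidueField, ← Category.assoc, hφ, σ.1.2]⟩

/-- Residue field embeddings over a given one. -/
lemma card_extensions [IsAlgClosed Ω] (π : U ⟶ V) (u : U)
    (hfin : (π.residueFieldMap u).hom.Finite) (ψ : V.residueField (π u) ⟶ CommRingCat.of Ω) :
    Finite {φ : U.residueField u ⟶ CommRingCat.of Ω // π.residueFieldMap u ≫ φ = ψ} ∧
    Nat.card {φ : U.residueField u ⟶ CommRingCat.of Ω // π.residueFieldMap u ≫ φ = ψ} =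
      (letI := (π.residueFieldMap u).hom.toAlgebra
       Field.finSepDegree (V.residueField (π u)) (U.residueField u)) := by
  let := (π.residueFieldMap u).hom.toAlgebra
  let : Algebra (V.residueField (π u)) Ω := ψ.hom.toAlgebra
  have : Module.Finite (V.residueField (π u)) (U.residueField u) := hfin
  let e : {φ : U.residueField u ⟶ CommRingCat.of Ω // π.residueFieldMap u ≫ φ = ψ} ≃
      (U.residueField u →ₐ[V.residueField (π u)] Ω) :=
    { toFun := fun φ => { φ.1.hom with commutes' := fun a => ConcreteCategory.congr_hom φ.2 a }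
      invFun := fun g => ⟨CommRingCat.ofHom g.toRingHom, CommRingCat.hom_ext (RingHom.ext g.commutes)⟩
      left_inv := fun φ => rfl
      right_inv := fun g => rfl }
  refine ⟨Finite.of_equiv _ e.symm, ?_⟩
  rw [Field.finSepDegree_eq_of_isAlgClosed (V.residueField (π u)) (U.residueField u) Ω]
  exact Nat.card_congr e

lemma nonempty_geomPt_at [IsAlgClosed Ω] (π : U ⟶ V) (u : U)
    (hfin : (π.residueFieldMap u).hom.Finite) (vb : Spec (CommRingCat.of Ω) ⟶ V)
    (hu : ptOf vb = π u) : ∃ σ : GeomPt π vb, ptOf σ.1 = u := by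
  obtain ⟨ψ, hψ⟩ := exists_factor_at vb hu
  let := (π.residueFieldMap u).hom.toAlgebra
  let : Algebra (V.residueField (π u)) Ω := ψ.hom.toAlgebra
  have : Module.Finite (V.residueField (π u)) (U.residueField u) := hfin
  let φ : U.residueField u →ₐ[V.residueField (π u)] Ω := IsAlgClosed.lift
  let σ := geomPtAtEquiv π u ψ hψ ⟨CommRingCat.ofHom φ.toRingHom,
    CommRingCat.hom_ext (RingHom.ext φ.commutes)⟩
  exact ⟨σ.1, σ.2⟩

variable [IsAlgClosed Ω] (π : U ⟶ V) [LocallyQuasiFinite π] [LocallyOfFiniteType π]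
  (vb : Spec (CommRingCat.of Ω) ⟶ V)

lemma exists_geomPt_at (u : U) (hu : π u = ptOf vb) : ∃ σ : GeomPt π vb, ptOf σ.1 = u :=
  nonempty_geomPt_at π u (Flatmor4.finite_residueFieldMap π (π.quasiFiniteAt u)) vb hu.symm

lemma finite_fibre_of_finite_geomPt [Finite (GeomPt π vb)] : (π ⁻¹' {ptOf vb}).Finite := by
  refine (Set.finite_range fun σ : GeomPt π vb => ptOf σ.1).subset fun u hu => ?_
  obtain ⟨σ, hσ⟩ := exists_geomPt_at π vb u hu
  exact ⟨σ, hσ⟩

lemma finite_geomPt (h : (π ⁻¹' {ptOf vb}).Finite) : Finite (GeomPt π vb) := by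
  have := h.to_subtype
  let g : GeomPt π vb → π ⁻¹' {ptOf vb} := fun σ => ⟨ptOf σ.1, σ.apply_ptOf⟩
  have : ∀ u, Finite {σ // g σ = u} := fun ⟨u, hu⟩ => by
    obtain ⟨ψ, hψ⟩ := exists_factor_at vb (show ptOf vb = π u from hu.symm)
    have := (card_extensions π u (Flatmor4.finite_residueFieldMap π (π.quasiFiniteAt u)) ψ).1
    have := Finite.of_equiv _ (geomPtAtEquiv π u ψ hψ)
    exact Finite.of_injective
      (fun σ : {σ // g σ = ⟨u, hu⟩} => (⟨σ.1, congrArg Subtype.val σ.2⟩ : {σ // ptOf σ.1 = u}))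
      fun a b h => Subtype.ext (Subtype.ext_iff.mp h :)
  exact Finite.of_equiv _ (Equiv.sigmaFiberEquiv g)

/-- The fibre integral is the sum of the weights over geometric points. -/
theorem fibreIntegral_eq_sum [Finite (GeomPt π vb)] (w : U → ℤ) {v : V} (hv : ptOf vb = v) :
    MoreMor.fibreIntegral π w v = ∑ᶠ σ : GeomPt π vb, w (ptOf σ.1) := by
  subst hv
  have : Finite {u : U // π u = ptOf vb} := (finite_fibre_of_finite_geomPt π vb).to_subtype
  have := Fintype.ofFinite {u : U // π u = ptOf vb}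
  have := Fintype.ofFinite (GeomPt π vb)
  classical
  let g : GeomPt π vb → {u : U // π u = ptOf vb} := fun σ => ⟨ptOf σ.1, σ.apply_ptOf⟩
  rw [MoreMor.fibreIntegral, finsum_eq_sum_of_fintype, finsum_eq_sum_of_fintype,
    ← Fintype.sum_fiberwise g]
  refine Finset.sum_congr rfl fun ⟨u, hu⟩ _ => ?_
  obtain ⟨ψ, hψ⟩ := exists_factor_at vb hu.symm
  obtain ⟨hfinE, hcard⟩ := card_extensions π u (Flatmor4.finite_residueFieldMap π (π.quasiFiniteAt u)) ψ
  rw [Finset.sum_congr rfl (g := fun _ => w u)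
    (fun σ _ => congrArg w (congrArg Subtype.val σ.2)), Finset.sum_const, Finset.card_univ,
    ← Nat.card_eq_fintype_card, nsmul_eq_mul, mul_comm]
  congr 1
  rw [Nat.card_congr ((Equiv.subtypeEquivRight fun σ => Subtype.ext_iff).trans
    (geomPtAtEquiv π u ψ hψ).symm), hcard]

/-- Lifts along a base change. -/
noncomputable def geomPtBaseChange {U V U' V' : Scheme.{u}} {π : U ⟶ V} {π' : U' ⟶ V'} {h : U' ⟶ U}
    {g : V' ⟶ V} (hc : IsPullback h π' π g) {Ω : Type u} [Field Ω]
    (vb : Spec (CommRingCat.of Ω) ⟶ V') : GeomPt π' vb ≃ GeomPt π (vb ≫ g) where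
  toFun σ := ⟨σ.1 ≫ h, by rw [Category.assoc, hc.w, ← Category.assoc, σ.2]⟩
  invFun σ := ⟨hc.lift σ.1 vb σ.2, hc.lift_snd _ _ _⟩
  left_inv σ := Subtype.ext (hc.hom_ext (hc.lift_fst _ _ _) ((hc.lift_snd _ _ _).trans σ.2.symm))
  right_inv σ := Subtype.ext (hc.lift_fst _ _ _)

/-- Base change of fibre integrals. -/
theorem fibreIntegral_baseChange {U V U' V' : Scheme.{u}} {π : U ⟶ V} [LocallyQuasiFinite π]
    [LocallyOfFiniteType π] {π' : U' ⟶ V'} {h : U' ⟶ U} {g : V' ⟶ V} (hc : IsPullback h π' π g)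
    (w : U → ℤ) (v' : V') (hfin : (π ⁻¹' {g v'}).Finite) :
    MoreMor.fibreIntegral π' (w ∘ ⇑h) v' = MoreMor.fibreIntegral π w (g v') := by
  have : LocallyQuasiFinite π' := MorphismProperty.of_isPullback hc ‹_›
  have : LocallyOfFiniteType π' := MorphismProperty.of_isPullback hc ‹_›
  let vb := algClosurePt v'
  have hv : ptOf (vb ≫ g) = g v' := by rw [ptOf_comp, ptOf_algClosurePt]
  have := finite_geomPt π (vb ≫ g) (hv.symm ▸ hfin)
  have := Finite.of_equiv _ (geomPtBaseChange hc vb).symm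
  rw [fibreIntegral_eq_sum π' vb _ (ptOf_algClosurePt v'), fibreIntegral_eq_sum π (vb ≫ g) w hv]
  exact finsum_eq_of_bijective _ (geomPtBaseChange hc vb).bijective
    fun σ => congrArg w (ptOf_comp σ.1 h).symm

end Groth.FlatMor2
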