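import Groth.Agent.FlatMor2.Weighting.Constructible
import Groth.Agent.EtaleBase.Rigidity

/-!
# Weightings are detected on one chart per point

A function is a weighting as soon as, for every point, its integral is locally constant along one
piece through that point.  Finitely many charts contain pieces through all points of an affine source.
-/

set_option autoImplicit false

universe u

open CategoryTheory CategoryTheory.Limits AlgebraicGeometry Topology Filter TopologicalSpace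

namespace Groth.FlatMor2

open Groth.SpectralTopology

variable {X Y : Scheme.{u}}

/-- Base change of a piece along a cartesian square over the charts. -/
lemma Piece.exists_baseChange_sq {f : X ⟶ Y} {V : Scheme.{u}} {k : V ⟶ Y} {v : V} (Q : Piece f k v)
    {X' Y' V' : Scheme.{u}} {f' : X' ⟶ Y'} {k' : V' ⟶ Y'} {q : pullback f' k' ⟶ pullback f k}
    {a : V' ⟶ V} (hq : IsPullback q (pullback.snd f' k') (pullback.snd f k) a)
    (z : ↑(pullback f' k')) (hz : q z = Q.pt) {v' : V'} (hv' : pullback.snd f' k' z = v') :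
    ∃ Q' : Piece f' k' v', Q'.opens = q ⁻¹ᵁ Q.opens ∧ Q'.pt = z := by
  have := Q.finite
  have hfin := (openIntegral_baseChange hq Q.opens).1
  have hinj : ∀ x, q x = Q.pt → GeomInjAt (pullback.snd f' k') x :=
    fun x hx => GeomInjAt.baseChange hq (hx.symm ▸ Q.inj)
  have hv : a v' = v := by
    rw [← hv', ← Scheme.Hom.comp_apply, ← hq.w, Scheme.Hom.comp_apply, hz, Q.snd_pt]
  have hzA : z ∈ q ⁻¹ᵁ Q.opens := show _ ∈ Q.opens from hz.symm ▸ Q.pt_mem
  refine ⟨⟨q ⁻¹ᵁ Q.opens, hfin, z, hzA, hv', fun x hx hxv => ?_, hinj z hz⟩, rfl, rfl⟩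
  have hxz : q x = Q.pt := Q.eq_pt _ hx (by
    rw [← Scheme.Hom.comp_apply, hq.w, Scheme.Hom.comp_apply, hxv, hv])
  let vb := algClosurePt v'
  obtain ⟨σ, -, hσ⟩ := exists_mem_openPts (pullback.snd f' k') (q ⁻¹ᵁ Q.opens) vb hx
    (hxv.trans (ptOf_algClosurePt v').symm)
  obtain ⟨τ, -, hτ⟩ := exists_mem_openPts (pullback.snd f' k') (q ⁻¹ᵁ Q.opens) vb hzA
    (hv'.trans (ptOf_algClosurePt v').symm)
  have : σ.1 ≫ q = τ.1 ≫ q := Q.inj _ _ _
    (by rw [ptOf_comp, hσ, hxz]) (by rw [ptOf_comp, hτ, hz])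
    (by rw [Category.assoc, Category.assoc, hq.w, reassoc_of% σ.2, reassoc_of% τ.2])
  rw [← hσ, ← hτ, hq.hom_ext this (σ.2.trans τ.2.symm)]

lemma pullMap_comp (f : X ⟶ Y) {V₁ V₂ V₃ : Scheme.{u}} {k₁ : V₁ ⟶ Y} {k₂ : V₂ ⟶ Y} {k₃ : V₃ ⟶ Y}
    (a : V₁ ⟶ V₂) (b : V₂ ⟶ V₃) (ha : a ≫ k₂ = k₁) (hb : b ≫ k₃ = k₂) {c : V₁ ⟶ V₃}
    (hc : c = a ≫ b) {hck : c ≫ k₃ = k₁} :
    pullMap f a ha ≫ pullMap f b hb = pullMap f c hck := by
  subst hc
  apply pullback.hom_ext
  · rw [Category.assoc, pullMap_fst, pullMap_fst, pullMap_fst]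
  · rw [Category.assoc, pullMap_snd, ← Category.assoc, pullMap_snd, pullMap_snd, Category.assoc]

/-- A piece through `x` with locally constant integral. -/
def HasGoodPiece (f : X ⟶ Y) (w : X → ℤ) (x : X) : Prop :=
  ∃ (V : Scheme.{u}) (k : V ⟶ Y) (v : V) (_ : Etale k) (Q : Piece f k v),
    pullback.fst f k Q.pt = x ∧
      IsLocallyConstant (openIntegral (pullback.snd f k) Q.opens fun z => w (pullback.fst f k z))

/-- Simultaneous refinement of finitely many good pieces along a geometric point. -/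
lemma exists_refinement (f : X ⟶ Y) (w : X → ℤ) (h : ∀ x, HasGoodPiece f w x) {V : Scheme.{u}}
    (g : V ⟶ Y) {Ω : Type u} [Field Ω] [IsAlgClosed Ω] (vb : Spec (CommRingCat.of Ω) ⟶ V)
    {s : Set (GeomPt (pullback.snd f g) vb)} (hs : s.Finite) :
    ∃ (V' : Scheme.{u}) (a : V' ⟶ V) (vb' : Spec (CommRingCat.of Ω) ⟶ V'),
      Etale a ∧ vb' ≫ a = vb ∧ ∀ σ ∈ s, ∀ σ' : GeomPt (pullback.snd f (a ≫ g)) vb',
        σ'.1 ≫ pullMap f a rfl = σ.1 → ∃ Q : Piece f (a ≫ g) (ptOf vb'), Q.pt = ptOf σ'.1 ∧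
          IsLocallyConstant (openIntegral (pullback.snd f (a ≫ g)) Q.opens
            fun z => w (pullback.fst f (a ≫ g) z)) := by
  induction s, hs using Set.Finite.induction_on with
  | empty => exact ⟨V, 𝟙 V, vb, inferInstance, Category.comp_id _, fun σ hσ => absurd hσ (Set.notMem_empty σ)⟩
  | @insert σ t _ _ ih =>
    obtain ⟨V', a, vb', ha, hvb', hold⟩ := ih
    obtain ⟨V₀, k₀, v₀, hk₀, Q, hQx, hQlc⟩ := h (ptOf (σ.1 ≫ pullback.fst f g))
    have hlqf : LocallyQuasiFinite (pullback.fst f k₀) := inferInstance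
    obtain ⟨τ, hτ⟩ := exists_geomPt_at (pullback.fst f k₀) (σ.1 ≫ pullback.fst f g) Q.pt hQx
    let vb₀ := τ.1 ≫ pullback.snd f k₀
    have hcompat : vb' ≫ a ≫ g = vb₀ ≫ k₀ := by
      rw [reassoc_of% hvb', Category.assoc, ← pullback.condition, reassoc_of% τ.2,
        pullback.condition, reassoc_of% σ.2]
    let V'' := pullback (a ≫ g) k₀
    let p₁ : V'' ⟶ V' := pullback.fst _ _
    let p₂ : V'' ⟶ V₀ := pullback.snd _ _
    let vb'' : Spec (CommRingCat.of Ω) ⟶ V'' := pullback.lift vb' vb₀ hcompat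
    have hb₁ : vb'' ≫ p₁ = vb' := pullback.lift_fst _ _ _
    have hb₂ : vb'' ≫ p₂ = vb₀ := pullback.lift_snd _ _ _
    refine ⟨V'', p₁ ≫ a, vb'', inferInstance, by rw [reassoc_of% hb₁, hvb'], ?_⟩
    intro ρ hρ σ'' hσ''
    rcases Set.mem_insert_iff.mp hρ with rfl | hρt
    · have hk₂ : p₂ ≫ k₀ = (p₁ ≫ a) ≫ g := by
        rw [Category.assoc]; exact pullback.condition.symm
      let q := pullMap f p₂ hk₂
      have hq : σ''.1 ≫ q = τ.1 := by
        apply pullback.hom_ext
        · have := congrArg (· ≫ pullback.fst f g) hσ''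
          rw [Category.assoc, pullMap_fst] at this
          rw [Category.assoc, pullMap_fst, τ.2, this]
        · rw [Category.assoc, pullMap_snd, reassoc_of% σ''.2, hb₂]
      obtain ⟨Q'', hQo, hQp⟩ := Q.exists_baseChange_sq (isPullback_pullMap f p₂ hk₂) (ptOf σ''.1)
        (show q (ptOf σ''.1) = Q.pt by rw [← ptOf_comp, hq, hτ]) σ''.apply_ptOf
      refine ⟨Q'', hQp, ?_⟩
      have := Q.finite
      have h1 := (hQlc.comp_continuous p₂.continuous)
      convert h1 using 1
      funext t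
      rw [hQo, Function.comp_apply, ← (openIntegral_baseChange (isPullback_pullMap f p₂ hk₂) Q.opens).2]
      congr 1
      funext z
      rw [fst_pullMap]
    · have hk₁ : p₁ ≫ a ≫ g = (p₁ ≫ a) ≫ g := (Category.assoc _ _ _).symm
      let q := pullMap f p₁ hk₁
      let σ' : GeomPt (pullback.snd f (a ≫ g)) vb' := ⟨σ''.1 ≫ q, by
        rw [Category.assoc, pullMap_snd, reassoc_of% σ''.2, hb₁]⟩
      have hσ' : σ'.1 ≫ pullMap f a rfl = ρ.1 := by
        rw [← hσ'']
        simp only [σ', q, Category.assoc]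
        congr 1
        exact pullMap_comp f p₁ a hk₁ rfl rfl
      obtain ⟨Q, hQp, hQlc⟩ := hold ρ hρt σ' hσ'
      obtain ⟨Q'', hQo, hQp''⟩ := Q.exists_baseChange_sq (isPullback_pullMap f p₁ hk₁) (ptOf σ''.1)
        (show q (ptOf σ''.1) = Q.pt by rw [hQp, ← ptOf_comp]) σ''.apply_ptOf
      refine ⟨Q'', hQp'', ?_⟩
      have := Q.finite
      have h1 := (hQlc.comp_continuous p₁.continuous)
      convert h1 using 1
      funext t
      rw [hQo, Function.comp_apply, ← (openIntegral_baseChange (isPullback_pullMap f p₁ hk₁) Q.opens).2]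
      congr 1
      funext z
      rw [fst_pullMap]

/-- One good piece through each point suffices. -/
theorem isWeighting_of_goodPieces (f : X ⟶ Y) (w : X → ℤ) (h : ∀ x, HasGoodPiece f w x) :
    MoreMor.IsWeighting f w := by
  intro V g _ U hU
  change IsLocallyConstant (openIntegral (pullback.snd f g) U fun x => w (pullback.fst f g x))
  refine (IsLocallyConstant.iff_eventually_eq _).mpr fun v => ?_
  let p := pullback.snd f g
  let vb := algClosurePt v
  have : IsFinite (U.ι ≫ p) := hU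
  obtain ⟨V', a, vb', ha, hvb', hQ⟩ := exists_refinement f w h g vb (finite_openPts p U vb)
  let p' := pullback.snd f (a ≫ g)
  let q := pullMap f a (rfl : a ≫ g = a ≫ g)
  let v' := ptOf vb'
  have hav : a v' = v := by rw [← ptOf_comp, hvb']; exact ptOf_algClosurePt v
  obtain ⟨hfin, hint⟩ := openIntegral_baseChange (isPullback_pullMap f a rfl) U
  have := hfin
  let F := {x : ↑(pullback f (a ≫ g)) // x ∈ q ⁻¹ᵁ U ∧ p' x = v'}
  have hF : Finite F := by
    have := (((q ⁻¹ᵁ U).ι ≫ p').finite_preimage_singleton v').to_subtype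
    exact Finite.of_surjective (fun u : ((q ⁻¹ᵁ U).ι ≫ p') ⁻¹' {v'} =>
      (⟨u.1.1, u.1.2, (Scheme.Hom.comp_apply _ _ _).symm.trans u.2⟩ : F))
      fun x => ⟨⟨⟨x.1, x.2.1⟩, (Scheme.Hom.comp_apply _ _ _).trans x.2.2⟩, rfl⟩
  obtain ⟨n, ⟨e⟩⟩ := Finite.exists_equiv_fin F
  have hpiece : ∀ j : Fin n, ∃ Q : Piece f (a ≫ g) v', Q.pt = (e.symm j).1 ∧
      IsLocallyConstant (openIntegral p' Q.opens fun z => w (pullback.fst f (a ≫ g) z)) := fun j => by
    obtain ⟨σ', hσU, hσ'⟩ := exists_mem_openPts p' (q ⁻¹ᵁ U) vb' (e.symm j).2.1 (e.symm j).2.2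
    let σ : GeomPt p vb := ⟨σ'.1 ≫ q, by
      rw [Category.assoc, show q ≫ p = p' ≫ a from pullMap_snd f a rfl, reassoc_of% σ'.2, hvb']⟩
    have hσ : σ ∈ openPts p U vb := show ptOf (σ'.1 ≫ q) ∈ U by
      rw [ptOf_comp]; exact hσU
    obtain ⟨Q, hQp, hQlc⟩ := hQ σ hσ σ' rfl
    exact ⟨Q, hQp.trans hσ', hQlc⟩
  choose Q hQp hQlc using hpiece
  have key := eventually_openIntegral_eq p' v' (q ⁻¹ᵁ U) (fun j => (Q j).opens)
    (fun j => (Q j).finite)
    (fun j x hx hxv => by rw [(Q j).eq_pt x hx hxv, hQp]; exact (e.symm j).2.1)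
    (fun x hx hxv => ⟨e ⟨x, hx, hxv⟩, by
      have := (Q (e ⟨x, hx, hxv⟩)).pt_mem
      simpa [hQp] using this⟩)
    (fun i j hij x hxv hi hj => hij (e.symm.injective (Subtype.ext (by
      rw [← hQp i, ← hQp j, ← (Q i).eq_pt x hi hxv, ← (Q j).eq_pt x hj hxv]))))
    (fun x => w (pullback.fst f (a ≫ g) x))
  have hint' : ∀ t, openIntegral p' (q ⁻¹ᵁ U) (fun x => w (pullback.fst f (a ≫ g) x)) t =
      openIntegral p U (fun x => w (pullback.fst f g x)) (a t) := fun t => by
    rw [← hint]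
    congr 1
    funext x
    rw [fst_pullMap]
  have hconst : ∀ᶠ t in 𝓝 v', ∀ j, openIntegral p' (Q j).opens
      (fun x => w (pullback.fst f (a ≫ g) x)) t = openIntegral p' (Q j).opens
      (fun x => w (pullback.fst f (a ≫ g) x)) v' :=
    Filter.eventually_all.mpr fun j => (IsLocallyConstant.iff_eventually_eq _).mp (hQlc j) v'
  have hev : ∀ᶠ t in 𝓝 v', openIntegral p U (fun x => w (pullback.fst f g x)) (a t)
      = openIntegral p U (fun x => w (pullback.fst f g x)) v := by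
    have h0 := key.self_of_nhds
    filter_upwards [key, hconst] with t ht htc
    rw [← hint', ht, finsum_congr htc, ← h0, hint', hav]
  obtain ⟨N, hN, hNo, hvN⟩ := eventually_nhds_iff.mp hev
  exact eventually_nhds_iff.mpr ⟨a '' N, by rintro _ ⟨t, ht, rfl⟩; exact hN t ht,
    a.isOpenMap _ hNo, v', hvN, hav⟩

section DoubleLocus

variable {P V : Scheme.{u}} (p : P ⟶ V) (A : P.Opens)

/-- The points of the base over which an open has two different geometric points. -/
noncomputable def doubleLocus : Set V :=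
  (pullback.fst (A.ι ≫ p) (A.ι ≫ p) ≫ A.ι ≫ p) '' (Set.range (pullback.diagonal (A.ι ≫ p)))ᶜ

variable [IsFinite (A.ι ≫ p)]

lemma isClosed_ct_doubleLocus [IsAffine V] :
    IsClosed[constructibleTopology V] (doubleLocus p A) := by
  let π := A.ι ≫ p
  have : IsFinite π := ‹IsFinite (A.ι ≫ p)›
  have := spectralSpace_of_isAffine V
  have : IsAffine A.toScheme := isAffine_of_isAffineHom π
  have : IsAffine (pullback π π) := isAffine_of_isAffineHom (pullback.fst π π)
  have := spectralSpace_of_isAffine (pullback π π)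
  have := Groth.Agent.S4599.result π
  let Δ := pullback.diagonal π
  let ρ := pullback.fst π π ≫ π
  have hD : IsClosed[constructibleTopology ↑(pullback π π)] (Set.range Δ)ᶜ :=
    (isClopen_ct_of_isConstructible (Set.image_univ (f := (Δ : A.toScheme → _)) ▸
      Δ.isConstructible_image IsConstructible.univ).compl).1
  have : IsAffineHom ρ := isAffineHom_of_isAffine _
  exact @IsCompact.isClosed _ (constructibleTopology V) t2Space_ct _
      (@IsCompact.image _ _ (constructibleTopology ↑(pullback π π)) (constructibleTopology V) _ _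
        (isCompact_ct_of_isClosed_ct hD) (continuous_ct ρ.isSpectralMap))

lemma lifts_eq_of_notMem {Ω : Type u} [Field Ω] (σ σ' : Spec (CommRingCat.of Ω) ⟶ A.toScheme)
    (h : σ ≫ A.ι ≫ p = σ' ≫ A.ι ≫ p) (hv : ptOf (σ ≫ A.ι ≫ p) ∉ doubleLocus p A) : σ = σ' := by
  let d := pullback.lift σ σ' h
  have hd : ptOf d ∈ Set.range (pullback.diagonal (A.ι ≫ p)) := by
    by_contra hd
    refine hv ⟨ptOf d, hd, ?_⟩
    rw [← ptOf_comp, pullback.lift_fst_assoc]
  obtain ⟨y, hy⟩ := hd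
  obtain ⟨ξ, hξ⟩ := exists_factor_preimmersion _ d y hy.symm
  refine (pullback.lift_fst _ _ _ : d ≫ pullback.fst _ _ = σ).symm.trans
    (Eq.trans ?_ (pullback.lift_snd _ _ _ : d ≫ pullback.snd _ _ = σ'))
  show d ≫ _ = d ≫ _
  rw [← hξ]
  simp

end DoubleLocus

variable {f : X ⟶ Y} {V : Scheme.{u}} {k : V ⟶ Y}

lemma Piece.notMem_doubleLocus {v : V} (Q : Piece f k v) :
    v ∉ doubleLocus (pullback.snd f k) Q.opens := by
  let π := Q.opens.ι ≫ pullback.snd f k
  rintro ⟨d, hd, hdv⟩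
  let σ := algClosurePt d
  have hσ : ptOf σ = d := ptOf_algClosurePt d
  have hmemQ : ∀ q : pullback π π ⟶ Q.opens, q ≫ π = pullback.fst π π ≫ π →
      ptOf (σ ≫ q ≫ Q.opens.ι) = Q.pt := by
    intro q hq
    rw [ptOf_comp, hσ, Scheme.Hom.comp_apply]
    refine Q.eq_pt _ (q d).2 ?_
    exact (congr($hq d)).trans hdv
  have he := Q.inj _ _ _ (hmemQ (pullback.fst π π) rfl) (hmemQ (pullback.snd π π) pullback.condition.symm)
    (by simp only [Category.assoc]; exact congrArg (σ ≫ ·) pullback.condition)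
  rw [← Category.assoc, ← Category.assoc, cancel_mono] at he
  have hσΔ : σ = (σ ≫ pullback.fst π π) ≫ pullback.diagonal π := by
    apply pullback.hom_ext
    · rw [Category.assoc, Category.assoc]
      exact (congrArg (σ ≫ ·) ((congrArg (pullback.fst π π ≫ ·) (pullback.diagonal_fst π)).trans
        (Category.comp_id _))).symm
    · rw [Category.assoc, Category.assoc]
      exact he.symm.trans (congrArg (σ ≫ ·) ((congrArg (pullback.fst π π ≫ ·) (pullback.diagonal_snd π)).trans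
        (Category.comp_id _))).symm
  refine hd ⟨ptOf (σ ≫ pullback.fst π π), ?_⟩
  rw [← ptOf_comp, ← hσΔ, hσ]

/-- A point of a finite open over a point with a single geometric point is the point of a piece. -/
lemma exists_piece_of_notMem (A : (pullback f k).Opens) [IsFinite (A.ι ≫ pullback.snd f k)]
    (c : ↑(pullback f k)) (hc : c ∈ A) (h : pullback.snd f k c ∉ doubleLocus (pullback.snd f k) A) :
    ∃ Q : Piece f k (pullback.snd f k c), Q.opens = A ∧ Q.pt = c := by
  let p := pullback.snd f k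
  have key : ∀ {Ω : Type u} [Field Ω] (σ σ' : Spec (CommRingCat.of Ω) ⟶ pullback f k),
      ptOf σ ∈ A → ptOf σ' ∈ A → σ ≫ p = σ' ≫ p → p (ptOf σ) = p c → σ = σ' := by
    intro Ω _ σ σ' hσ hσ' hp hv
    obtain ⟨τ, rfl⟩ := exists_factor_preimmersion A.ι σ ⟨_, hσ⟩ rfl
    obtain ⟨τ', rfl⟩ := exists_factor_preimmersion A.ι σ' ⟨_, hσ'⟩ rfl
    rw [Category.assoc, Category.assoc] at hp
    rw [lifts_eq_of_notMem p A τ τ' hp]
    rw [← Category.assoc, ptOf_comp, hv]
    exact h
  refine ⟨⟨A, ‹_›, c, hc, rfl, fun x hx hxv => ?_, fun Ω _ σ σ' hσ hσ' e =>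
    key σ σ' (hσ ▸ hc) (hσ' ▸ hc) e (congrArg p hσ)⟩, rfl, rfl⟩
  let vb := algClosurePt (p c)
  obtain ⟨σ, hσ, hσx⟩ := exists_mem_openPts p A vb hx (hxv.trans (ptOf_algClosurePt _).symm)
  obtain ⟨τ, hτ, hτc⟩ := exists_mem_openPts p A vb hc (ptOf_algClosurePt _).symm
  exact hσx.symm.trans ((congrArg ptOf
    (key σ.1 τ.1 hσ hτ (σ.2.trans τ.2.symm) ((congrArg p hσx).trans hxv))).trans hτc)

/-- Finitely many affine charts contain pieces through all points of an affine source. -/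
theorem exists_finite_charts (f : X ⟶ Y) [IsAffine X] [LocallyQuasiFinite f]
    [LocallyOfFiniteType f] :
    ∃ (n : ℕ) (V : Fin n → Scheme.{u}) (k : ∀ i, V i ⟶ Y) (A : ∀ i, (pullback f (k i)).Opens),
      (∀ i, IsAffine (V i) ∧ Etale (k i) ∧ IsFinite ((A i).ι ≫ pullback.snd f (k i))) ∧
      ∀ x : X, ∃ (i : Fin n) (v : V i) (Q : Piece f (k i) v),
        Q.opens = A i ∧ pullback.fst f (k i) Q.pt = x := by
  classical
  have := spectralSpace_of_isAffine X
  have step : ∀ x : X, ∃ (V : Scheme.{u}) (k : V ⟶ Y) (A : (pullback f k).Opens) (G : Set X),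
      IsAffine V ∧ Etale k ∧ IsFinite (A.ι ≫ pullback.snd f k) ∧
        IsOpen[constructibleTopology X] G ∧ x ∈ G ∧
        ∀ x' ∈ G, ∃ (v : V) (Q : Piece f k v), Q.opens = A ∧ pullback.fst f k Q.pt = x' := by
    intro x
    obtain ⟨V₀, k₀, v₀, hk₀, hkv, J, _, Q₀, -, hmem, hcov⟩ :=
      exists_pieces f (f x) {x} (Set.finite_singleton x) (by simp)
    obtain ⟨z, hzx, hzv⟩ := Scheme.Pullback.exists_preimage_pullback (f := f) (g := k₀) x v₀ hkv.symm
    obtain ⟨j, -⟩ := hcov z hzv hzx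
    obtain ⟨W, hW, hvW, -⟩ := exists_isAffineOpen_mem_and_subset (U := (⊤ : V₀.Opens)) (x := v₀) trivial
    let k := W.ι ≫ k₀
    obtain ⟨Q, -, hQp⟩ := (Q₀ j).exists_baseChange W.ι (rfl : W.ι ≫ k₀ = k) ⟨v₀, hvW⟩ rfl
    have hQx : pullback.fst f k Q.pt = x := by
      rw [← fst_pullMap f W.ι rfl, hQp]; exact hmem j
    have : IsAffine W.toScheme := hW
    have := spectralSpace_of_isAffine W.toScheme
    let π := Q.opens.ι ≫ pullback.snd f k
    have : IsFinite π := Q.finite
    have : IsFinite (Q.opens.ι ≫ pullback.snd f k) := Q.finite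
    have : IsAffine Q.opens.toScheme := isAffine_of_isAffineHom π
    have := spectralSpace_of_isAffine Q.opens.toScheme
    let e := Q.opens.ι ≫ pullback.fst f k
    have : IsAffineHom e := isAffineHom_of_isAffine _
    have hG : IsOpen[constructibleTopology Q.opens.toScheme]
        (π ⁻¹' (doubleLocus (pullback.snd f k) Q.opens)ᶜ) :=
      @IsOpen.preimage _ _ (constructibleTopology Q.opens.toScheme)
        (constructibleTopology W.toScheme) _ (continuous_ct π.isSpectralMap) _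
        ((@isOpen_compl_iff _ _ (constructibleTopology W.toScheme)).mpr (isClosed_ct_doubleLocus _ _))
    obtain ⟨C, hC, hpC, hsub⟩ := EGA41Two.exists_isConstructible_mem_subset hG
      (x := ⟨Q.pt, Q.pt_mem⟩) (by
        show π ⟨Q.pt, Q.pt_mem⟩ ∉ doubleLocus _ _
        rw [show π ⟨Q.pt, Q.pt_mem⟩ = ⟨v₀, hvW⟩ from (Scheme.Hom.comp_apply _ _ _).trans Q.snd_pt]
        exact Q.notMem_doubleLocus)
    refine ⟨W.toScheme, k, Q.opens, e '' C, ‹_›, inferInstance, Q.finite,
      (isClopen_ct_of_isConstructible (e.isConstructible_image hC)).2,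
      ⟨_, hpC, (Scheme.Hom.comp_apply _ _ _).trans hQx⟩, ?_⟩
    rintro _ ⟨c, hc, rfl⟩
    have hc' : π c ∉ doubleLocus _ _ := hsub hc
    obtain ⟨Q', hQ'o, hQ'p⟩ := exists_piece_of_notMem Q.opens c.1 c.2
      (by rwa [Scheme.Hom.comp_apply] at hc')
    exact ⟨_, Q', hQ'o, by rw [hQ'p, Scheme.Hom.comp_apply]; rfl⟩
  choose V k A G hV hk hA hG hxG hGp using step
  obtain ⟨t, ht⟩ := @IsCompact.elim_finite_subcover _ (constructibleTopology X) Set.univ _
    (@isCompact_univ _ (constructibleTopology X) compactSpace_ct) _ hG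
    (fun x _ => Set.mem_iUnion.mpr ⟨x, hxG x⟩)
  refine ⟨t.card, fun i => V (t.equivFin.symm i).1, fun i => k _, fun i => A _,
    fun i => ⟨hV _, hk _, hA _⟩, fun x => ?_⟩
  obtain ⟨x₀, hx₀, hx⟩ := Set.mem_iUnion₂.mp (ht (Set.mem_univ x))
  obtain ⟨i, rfl⟩ : ∃ i, (t.equivFin.symm i).1 = x₀ := ⟨t.equivFin ⟨x₀, hx₀⟩, by simp⟩
  exact ⟨i, hGp _ x hx⟩

end Groth.FlatMor2
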