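import Groth.Agent.FlatMor2.Weighting.Charts

/-!
# Fibre integrals of constructible functions along finite morphisms
-/

set_option autoImplicit false

universe u

open CategoryTheory CategoryTheory.Limits AlgebraicGeometry Topology Filter TopologicalSpace

namespace Groth.FlatMor2

open Groth.SpectralTopology

variable {U V : Scheme.{u}} (π : U ⟶ V)

/-- The fibre integral of a constructible function along a finite morphism of finite presentation
to an affine scheme is constructible. -/
theorem isLocallyConstant_ct_fibreIntegral [IsAffine V] [IsFinite π] [LocallyOfFinitePresentation π]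
    (w : U → ℤ) (hw : @IsLocallyConstant U ℤ (constructibleTopology U) w) :
    @IsLocallyConstant V ℤ (constructibleTopology V) (MoreMor.fibreIntegral π w) := by
  classical
  have := spectralSpace_of_isAffine V
  have : IsAffine U := isAffine_of_isAffineHom π
  have := spectralSpace_of_isAffine U
  intro E
  refine (isClopen_ct_of_isConstructible (IsLocallyConstructible.isConstructible ?_)).2
  refine isLocallyConstructible_of_local _ fun y => ?_
  have hfib : ∀ y, (π ⁻¹' {y}).Finite := fun y => π.finite_preimage_singleton y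
  obtain ⟨V₀, k₀, v₀, hk₀, hkv, J, _, Q₀, hinj₀, -, hcov₀⟩ :=
    exists_pieces π y (π ⁻¹' {y}) (hfib y) fun x hx => hx
  obtain ⟨A, hA, hvA, -⟩ := exists_isAffineOpen_mem_and_subset (U := (⊤ : V₀.Opens)) (x := v₀) trivial
  let k := A.ι ≫ k₀
  let v : A.toScheme := ⟨v₀, hvA⟩
  choose Q hQo hQp using fun j => (Q₀ j).exists_baseChange A.ι (rfl : A.ι ≫ k₀ = k) v rfl
  have : IsAffine A.toScheme := hA
  have := spectralSpace_of_isAffine A.toScheme
  have hkvy : k v = y := by simp only [k, Scheme.Hom.comp_apply]; exact hkv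
  let p := pullback.snd π k
  have : IsAffine (pullback π k) := isAffine_of_isAffineHom p
  have := spectralSpace_of_isAffine (pullback π k)
  have hfinQ := fun j => (Q j).finite
  have hAffQ : ∀ j, IsAffineOpen (Q j).opens := fun j => isAffine_of_isAffineHom ((Q j).opens.ι ≫ p)
  let wA : ↑(pullback π k) → ℤ := fun x => w (pullback.fst π k x)
  let B₀ : Set A.toScheme := p '' (⋃ j, ((Q j).opens : Set ↑(pullback π k)))ᶜ
  let B₁ : Set A.toScheme := ⋃ i, ⋃ j, ⋃ (_ : i ≠ j), p '' ((Q i).opens ∩ (Q j).opens)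
  have hB₀ : IsClosed[constructibleTopology A.toScheme] B₀ :=
    isClosed_ct_image p (isOpen_iUnion fun j => (Q j).opens.2).isClosed_compl
  have hB₁ : IsClosed[constructibleTopology A.toScheme] B₁ := by
    refine @isClosed_iUnion_of_finite _ _ (constructibleTopology A.toScheme) _ _ fun i =>
      @isClosed_iUnion_of_finite _ _ (constructibleTopology A.toScheme) _ _ fun j =>
      @isClosed_iUnion_of_finite _ _ (constructibleTopology A.toScheme) _ _ fun _ => ?_
    have : CompactSpace ((Q i).opens ⊓ (Q j).opens).toScheme := isCompact_iff_compactSpace.mp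
      ((hAffQ i).isCompact.inter_of_isOpen (hAffQ j).isCompact (Q i).opens.2 (Q j).opens.2)
    convert isClosed_ct_range (((Q i).opens ⊓ (Q j).opens).ι ≫ p) using 1
    rw [show Set.range (((Q i).opens ⊓ (Q j).opens).ι ≫ p) =
      Set.range ((p : _ → A.toScheme) ∘ ((Q i).opens ⊓ (Q j).opens).ι) from rfl,
      Set.range_comp, Scheme.Opens.range_ι]
    rfl
  have hv₀ : v ∉ B₀ := by
    rintro ⟨x, hx, hxv⟩
    obtain ⟨j, hj⟩ := hcov₀ (pullMap π A.ι rfl x) (by rw [snd_pullMap]; exact congrArg A.ι hxv)
      (by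
        rw [fst_pullMap, Set.mem_preimage, Set.mem_singleton_iff, ← hkvy, ← hxv]
        exact congr($(pullback.condition (f := π) (g := k)) x))
    refine hx (Set.mem_iUnion.mpr ⟨j, ?_⟩)
    show x ∈ (Q j).opens
    rw [hQo]
    exact (show pullMap π A.ι rfl x ∈ (Q₀ j).opens from hj ▸ (Q₀ j).pt_mem)
  have hv₁ : v ∉ B₁ := by
    simp only [B₁, Set.mem_iUnion]
    rintro ⟨i, j, hij, x, ⟨hi, hj⟩, hxv⟩
    refine hij (hinj₀ ?_)
    dsimp only
    rw [← hQp i, ← hQp j, ← (Q i).eq_pt x hi hxv, ← (Q j).eq_pt x hj hxv]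
  -- the integral along each piece is constant near `v` in the constructible topology
  have hpiece : ∀ j, ∃ N : Set A.toScheme, IsOpen[constructibleTopology A.toScheme] N ∧ v ∈ N ∧
      ∀ t ∈ N, openIntegral p (Q j).opens wA t = openIntegral p (Q j).opens wA v := by
    intro j
    let πj := (Q j).opens.ι ≫ p
    have : IsFinite πj := (Q j).finite
    have : IsFinite ((Q j).opens.ι ≫ p) := (Q j).finite
    have : IsAffine (Q j).opens.toScheme := hAffQ j
    have := spectralSpace_of_isAffine (Q j).opens.toScheme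
    let e := (Q j).opens.ι ≫ pullback.fst π k
    have : IsAffineHom e := isAffineHom_of_isAffine _
    let c₀ := w (pullback.fst π k (Q j).pt)
    let bad : Set (Q j).opens.toScheme := e ⁻¹' (w ⁻¹' {c₀})ᶜ
    have hbad : IsClosed[constructibleTopology (Q j).opens.toScheme] bad :=
      @IsClosed.preimage _ _ (constructibleTopology (Q j).opens.toScheme) (constructibleTopology U) _
        (continuous_ct e.isSpectralMap) _ ((@isClosed_compl_iff _ (constructibleTopology U) _).mpr (hw {c₀}))
    have hbad' : IsClosed[constructibleTopology A.toScheme] (πj '' bad) :=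
      @IsCompact.isClosed _ (constructibleTopology A.toScheme) t2Space_ct _
        (@IsCompact.image _ _ (constructibleTopology (Q j).opens.toScheme)
          (constructibleTopology A.toScheme) _ _ (isCompact_ct_of_isClosed_ct hbad)
          (continuous_ct πj.isSpectralMap))
    refine ⟨(doubleLocus p (Q j).opens)ᶜ ∩ (Set.range πj ∩ (πj '' bad)ᶜ), ?_, ?_, ?_⟩
    · exact @IsOpen.inter _ (constructibleTopology A.toScheme) _ _
        ((@isOpen_compl_iff _ _ (constructibleTopology A.toScheme)).mpr (isClosed_ct_doubleLocus _ _))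
        (@IsOpen.inter _ (constructibleTopology A.toScheme) _ _
          (Set.image_univ (f := (πj : _ → A.toScheme)) ▸
            (isClopen_ct_of_isConstructible (πj.isConstructible_image IsConstructible.univ)).2)
          ((@isOpen_compl_iff _ _ (constructibleTopology A.toScheme)).mpr hbad'))
    · refine ⟨(Q j).notMem_doubleLocus, ⟨⟨(Q j).pt, (Q j).pt_mem⟩,
        (Scheme.Hom.comp_apply _ _ _).trans (Q j).snd_pt⟩, ?_⟩
      rintro ⟨c, hc, hcv⟩
      refine hc ?_
      show w (e c) = c₀
      rw [Scheme.Hom.comp_apply]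
      congr 2
      exact (Q j).eq_pt _ c.2 ((Scheme.Hom.comp_apply _ _ _).symm.trans hcv)
    · rintro t ⟨ht, ⟨c, rfl⟩, htb⟩
      rw [Piece.openIntegral_self (Q j) wA]
      have hcgood : w (e c) = c₀ := by
        by_contra h
        exact htb ⟨c, h, rfl⟩
      rw [Scheme.Hom.comp_apply] at hcgood ht ⊢
      obtain ⟨Q', hQ'o, hQ'p⟩ := exists_piece_of_notMem (Q j).opens _ c.2 ht
      have := Piece.openIntegral_self Q' wA
      rw [hQ'o, hQ'p] at this
      exact this.trans hcgood
  choose N hNo hvN hN using hpiece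
  have main : ∀ t, t ∉ B₀ → t ∉ B₁ → MoreMor.fibreIntegral π w (k t) =
      ∑ᶠ j, openIntegral p (Q j).opens wA t := by
    intro t h0 h1
    let vb := algClosurePt t
    have hv : ptOf (vb ≫ k) = k t := by rw [ptOf_comp, ptOf_algClosurePt]
    have := finite_geomPt π (vb ≫ k) (hfib _)
    have := Finite.of_equiv _ (geomPtBaseChange (IsPullback.of_hasPullback π k) vb).symm
    rw [← fibreIntegral_baseChange (IsPullback.of_hasPullback π k) w t (hfib _),
      fibreIntegral_eq_sum _ vb _ (ptOf_algClosurePt t)]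
    have hU : (⋃ j, openPts p (Q j).opens vb) = Set.univ := Set.eq_univ_of_forall fun σ => by
      by_contra hσ
      refine h0 ⟨ptOf σ.1, fun hmem => hσ ?_, σ.apply_ptOf.trans (ptOf_algClosurePt t)⟩
      obtain ⟨j, hj⟩ := Set.mem_iUnion.mp hmem
      exact Set.mem_iUnion.mpr ⟨j, hj⟩
    rw [← finsum_mem_univ, ← hU, finsum_mem_iUnion (t := fun j => openPts p (Q j).opens vb)
      (fun i j hij => Set.disjoint_left.mpr fun σ hi hj => h1 (Set.mem_iUnion.mpr ⟨i,
        Set.mem_iUnion.mpr ⟨j, Set.mem_iUnion.mpr ⟨hij, ptOf σ.1, ⟨hi, hj⟩,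
          σ.apply_ptOf.trans (ptOf_algClosurePt t)⟩⟩⟩)) (fun j => Set.toFinite _)]
    exact finsum_congr fun j => (openIntegral_eq_sum _ (Q j).opens vb _ (ptOf_algClosurePt t)).symm
  refine ⟨A.toScheme, k, v, (B₀ ∪ B₁)ᶜ ∩ ⋂ j, N j, inferInstance, inferInstance, ?_,
    ⟨not_or.mpr ⟨hv₀, hv₁⟩, Set.mem_iInter.mpr hvN⟩, hkvy, ?_⟩
  · exact @IsOpen.inter _ (constructibleTopology A.toScheme) _ _
      (Set.compl_union B₀ B₁ ▸ @IsOpen.inter _ (constructibleTopology A.toScheme) _ _
        ((@isOpen_compl_iff _ _ (constructibleTopology A.toScheme)).mpr hB₀)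
        ((@isOpen_compl_iff _ _ (constructibleTopology A.toScheme)).mpr hB₁))
      (@isOpen_iInter_of_finite _ _ (constructibleTopology A.toScheme) _ _ hNo)
  · rintro c ⟨hc, hcN⟩
    obtain ⟨hc0, hc1⟩ := not_or.mp hc
    show MoreMor.fibreIntegral π w (k c) ∈ E ↔ MoreMor.fibreIntegral π w y ∈ E
    rw [← hkvy, main c hc0 hc1, main v hv₀ hv₁,
      finsum_congr fun j => hN j c (Set.mem_iInter.mp hcN j)]

end Groth.FlatMor2
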