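import Groth.Agent.FlatMor2.Weighting.CtConst
import Groth.Agent.Limits.Descend

/-!
# Weightings descend along limits of affine schemes
-/

set_option autoImplicit false
set_option linter.style.haveILetI false

universe u

open CategoryTheory CategoryTheory.Limits AlgebraicGeometry Topology Filter TopologicalSpace

namespace Groth.FlatMor2

open Groth.SpectralTopology

/-- The map of base changes of `f` and `k` induced by a square over the base. -/
noncomputable def pullBase {X Y X' Y' V V' : Scheme.{u}} {f : X ⟶ Y} {f' : X' ⟶ Y'} {h : X' ⟶ X}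
    {b : Y' ⟶ Y} (hc : h ≫ f = f' ≫ b) {k : V ⟶ Y} {k' : V' ⟶ Y'} {a : V' ⟶ V}
    (hk : k' ≫ b = a ≫ k) : pullback f' k' ⟶ pullback f k :=
  pullback.map f' k' f k h a b hc.symm hk

lemma isPullback_pullBase {X Y X' Y' V V' : Scheme.{u}} {f : X ⟶ Y} {f' : X' ⟶ Y'} {h : X' ⟶ X}
    {b : Y' ⟶ Y} (hc : IsPullback h f' f b) {k : V ⟶ Y} {k' : V' ⟶ Y'} {a : V' ⟶ V}
    (hk : k' ≫ b = a ≫ k) :
    IsPullback (pullBase hc.w hk) (pullback.snd f' k') (pullback.snd f k) a := by
  refine IsPullback.of_right (h₁₂ := pullback.fst f k) (v₁₃ := f) (h₂₂ := k) ?_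
    (pullback.lift_snd _ _ _) (IsPullback.of_hasPullback f k)
  rw [show pullBase hc.w hk ≫ pullback.fst f k = pullback.fst f' k' ≫ h from pullback.lift_fst _ _ _,
    ← hk]
  exact (IsPullback.of_hasPullback f' k').paste_horiz hc

/-- Clopen subsets in the constructible topology of a spectral space are constructible. -/
lemma isConstructible_of_isClopen_ct {X : Type*} [TopologicalSpace X] [SpectralSpace X] {Z : Set X}
    (hc : IsClosed[constructibleTopology X] Z) (ho : IsOpen[constructibleTopology X] Z) :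
    IsConstructible Z := by
  choose C hC hxC hCZ using fun x : Z => EGA41Two.exists_isConstructible_mem_subset ho x.2
  obtain ⟨t, ht⟩ := @IsCompact.elim_finite_subcover _ (constructibleTopology X) Z _
    (isCompact_ct_of_isClosed_ct hc) C (fun x => (isClopen_ct_of_isConstructible (hC x)).2)
    (fun x hx => Set.mem_iUnion.mpr ⟨⟨x, hx⟩, hxC ⟨x, hx⟩⟩)
  have : Z = ⋃ x ∈ (t : Set Z), C x := Set.Subset.antisymm ht (Set.iUnion₂_subset fun x _ => hCZ x)
  rw [this]
  exact IsConstructible.biUnion t.finite_toSet fun x _ => hC x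

/-- Composites with spectral maps of functions constant in the constructible topology. -/
lemma isLocallyConstant_ct_comp {X Y : Scheme.{u}} [IsAffine X] [IsAffine Y] (a : X ⟶ Y)
    (g : Y → ℤ) (hg : @IsLocallyConstant Y ℤ (constructibleTopology Y) g) :
    @IsLocallyConstant X ℤ (constructibleTopology X) (fun x => g (a x)) := by
  have := spectralSpace_of_isAffine X
  have := spectralSpace_of_isAffine Y
  have : IsAffineHom a := isAffineHom_of_isAffine _
  exact fun E => @IsOpen.preimage _ _ (constructibleTopology X) (constructibleTopology Y) _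
    (continuous_ct a.isSpectralMap) _ (hg E)

section System

variable {I : Type u} [SmallCategory I] [IsCofiltered I] (D : I ⥤ Scheme.{u}) (c : Cone D)
  (hc : IsLimit c) [∀ i, IsAffine (D.obj i)] (i0 : I) {T : Scheme.{u}} [IsAffine T]
  (k : T ⟶ D.obj i0)

/-- Base change of a limit system along a morphism to a stage. -/
noncomputable abbrev baseSys : Over i0 ⥤ Scheme.{u} :=
  Over.post D ⋙ Over.pullback k ⋙ Over.forget T

/-- The cone on the base change of a limit system. -/
noncomputable abbrev baseCone : Cone (baseSys D i0 k) :=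
  (Over.pullback k ⋙ Over.forget _).mapCone ((Over.conePost D i0).obj c)

/-- The base change of a limit cone is a limit cone. -/
noncomputable def isLimitBaseCone (hc : IsLimit c) : IsLimit (baseCone D c i0 k) :=
  isLimitOfPreserves (Over.pullback k ⋙ Over.forget _) (Over.isLimitConePost _ hc)

/-- The transition maps of the base change of a limit system. -/
noncomputable def sysMap {j j' : Over i0} (φ : j ⟶ j') :
    pullback (D.map j.hom) k ⟶ pullback (D.map j'.hom) k :=
  (baseSys D i0 k).map φ

/-- The projections of the base change of a limit cone. -/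
noncomputable def sysπ (j : Over i0) :
    pullback (c.π.app i0) k ⟶ pullback (D.map j.hom) k :=
  (baseCone D c i0 k).π.app j

lemma sysMap_fst {j j' : Over i0} (φ : j ⟶ j') :
    sysMap D i0 k φ ≫ pullback.fst (D.map j'.hom) k = pullback.fst (D.map j.hom) k ≫ D.map φ.left :=
  pullback.lift_fst _ _ _

lemma sysMap_snd {j j' : Over i0} (φ : j ⟶ j') :
    sysMap D i0 k φ ≫ pullback.snd (D.map j'.hom) k = pullback.snd (D.map j.hom) k :=
  pullback.lift_snd _ _ _

lemma sysπ_fst (j : Over i0) :
    sysπ D c i0 k j ≫ pullback.fst (D.map j.hom) k = pullback.fst (c.π.app i0) k ≫ c.π.app j.left :=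
  pullback.lift_fst _ _ _

lemma sysπ_snd (j : Over i0) :
    sysπ D c i0 k j ≫ pullback.snd (D.map j.hom) k = pullback.snd (c.π.app i0) k :=
  pullback.lift_snd _ _ _

lemma sysπ_sysMap {j j' : Over i0} (φ : j ⟶ j') :
    sysπ D c i0 k j ≫ sysMap D i0 k φ = sysπ D c i0 k j' :=
  (baseCone D c i0 k).w φ

instance isAffine_baseSys (j : Over i0) : IsAffine ((baseSys D i0 k).obj j) :=
  show IsAffine (pullback (D.map j.hom) k) from inferInstance

include hc in
/-- A constructible function with locally constant pullback to the limit has locally constant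
pullback to some stage. -/
theorem exists_isLocallyConstant_stage (g : T → ℤ)
    (hg : @IsLocallyConstant T ℤ (constructibleTopology T) g)
    (hlim : IsLocallyConstant fun x => g (pullback.snd (c.π.app i0) k x)) :
    ∃ (j : Over i0), ∀ (j' : Over i0), (j' ⟶ j) →
      IsLocallyConstant fun x => g (pullback.snd (D.map j'.hom) k x) := by
  classical
  have := spectralSpace_of_isAffine T
  have hfin : (Set.range g).Finite :=
    @IsLocallyConstant.range_finite T ℤ (constructibleTopology T) compactSpace_ct g hg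
  let o : Over i0 := Over.mk (𝟙 i0)
  have (i j : Over i0) (f : i ⟶ j) : IsAffineHom ((baseSys D i0 k).map f) := isAffineHom_of_isAffine _
  let a := pullback.snd (D.map o.hom) k
  have := spectralSpace_of_isAffine (pullback (D.map o.hom) k)
  have hga := isLocallyConstant_ct_comp a g hg
  have hstep : ∀ n : ℤ, ∃ (j : Over i0), ∀ (j' : Over i0), (j' ⟶ j) →
      IsOpen {x | g (pullback.snd (D.map j'.hom) k x) = n} := by
    intro n
    let Z : Set ↑(pullback (D.map o.hom) k) := (fun x => g (a x)) ⁻¹' {n}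
    have hZ : IsConstructible Z := isConstructible_of_isClopen_ct
      (@IsLocallyConstant.isClopen_fiber _ _ (constructibleTopology ↑(pullback (D.map o.hom) k)) _ hga n).1
      (hga {n})
    have hZlim : ⇑(sysπ D c i0 k o) ⁻¹' Z =
        (fun x => g (pullback.snd (c.π.app i0) k x)) ⁻¹' {n} := by
      refine Set.ext fun x => ?_
      show g (a (sysπ D c i0 k o x)) = n ↔ _
      rw [← Scheme.Hom.comp_apply, sysπ_snd]
      rfl
    obtain ⟨j, φ, hj⟩ := Limits.exists_isOpen_preimage (baseSys D i0 k) (baseCone D c i0 k)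
      (isLimitBaseCone D c i0 k hc) (i := o) hZ (by
        show IsOpen (⇑(sysπ D c i0 k o) ⁻¹' Z)
        rw [hZlim]
        exact hlim {n})
    refine ⟨j, fun j' ψ => ?_⟩
    have hset : {x | g (pullback.snd (D.map j'.hom) k x) = n} =
        ⇑(sysMap D i0 k ψ) ⁻¹' (⇑(sysMap D i0 k φ) ⁻¹' Z) := by
      refine Set.ext fun x => ?_
      show g (pullback.snd (D.map j'.hom) k x) = n ↔
        g (a (sysMap D i0 k φ (sysMap D i0 k ψ x))) = n
      rw [← Scheme.Hom.comp_apply, sysMap_snd, ← Scheme.Hom.comp_apply, sysMap_snd]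
    rw [hset]
    exact IsOpen.preimage (sysMap D i0 k ψ).continuous hj
  choose J hJ using hstep
  obtain ⟨j, hj⟩ := IsCofiltered.inf_objs_exists (hfin.toFinset.image J)
  refine ⟨j, fun j' ψ => ?_⟩
  intro E
  rw [show (fun x => g (pullback.snd (D.map j'.hom) k x)) ⁻¹' E =
      ⋃ n ∈ Set.range g ∩ E, {x | g (pullback.snd (D.map j'.hom) k x) = n} by ext; simp]
  refine isOpen_biUnion fun n hn => ?_
  obtain ⟨χ⟩ := hj (Finset.mem_image_of_mem J (hfin.mem_toFinset.mpr hn.1))
  exact hJ n j' (ψ ≫ χ)

end System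

/-- Weightings descend along cofiltered limits of affine schemes. -/
theorem isWeighting_descends {I : Type u} [SmallCategory I] [IsCofiltered I]
    (D : I ⥤ Scheme.{u}) (c : Cone D) (hc : IsLimit c) [∀ i, IsAffine (D.obj i)]
    (i0 : I) {X0 X : Scheme.{u}} [IsAffine X0] (f0 : X0 ⟶ D.obj i0) [LocallyQuasiFinite f0]
    [LocallyOfFinitePresentation f0]
    (f : X ⟶ c.pt) (pX : X ⟶ X0) (hX : IsPullback pX f f0 (c.π.app i0))
    (w : X → ℤ) (hw : MoreMor.IsWeighting f w) :
    ∃ (i : I) (a : i ⟶ i0) (Xi : Scheme.{u}) (fi : Xi ⟶ D.obj i) (pXi : Xi ⟶ X0) (g : X ⟶ Xi)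
      (wi : Xi → ℤ),
      IsPullback pXi fi f0 (D.map a) ∧ g ≫ fi = f ≫ c.π.app i ∧ g ≫ pXi = pX ∧
      MoreMor.IsWeighting fi wi ∧ ∀ x : X, wi (g x) = w x := by
  classical
  have (i j : I) (φ : i ⟶ j) : IsAffineHom (D.map φ) := isAffineHom_of_isAffine _
  have := isAffineHom_π_app D c hc i0
  have : IsAffine c.pt := isAffine_of_isAffineHom (c.π.app i0)
  have : IsAffineHom f := MorphismProperty.of_isPullback hX (isAffineHom_of_isAffine f0)
  have : IsAffine X := isAffine_of_isAffineHom f
  have : LocallyQuasiFinite f := MorphismProperty.of_isPullback hX ‹_›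
  have : LocallyOfFinitePresentation f := MorphismProperty.of_isPullback hX ‹_›
  have := spectralSpace_of_isAffine X
  -- the system of base changes of `f0`, with limit `X`
  let P : Over i0 → Scheme.{u} := fun j => pullback (D.map j.hom) f0
  let e : X ≅ (baseCone D c i0 f0).pt := hX.flip.isoPullback
  let gX : ∀ j : Over i0, X ⟶ P j := fun j => hX.flip.isoPullback.hom ≫ sysπ D c i0 f0 j
  let XX : Cone (baseSys D i0 f0) := (baseCone D c i0 f0).extend e.hom
  have hXX : IsLimit XX := IsLimit.extendIso e.hom (isLimitBaseCone D c i0 f0 hc)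
  have (i j : Over i0) (φ : i ⟶ j) : IsAffineHom ((baseSys D i0 f0).map φ) := isAffineHom_of_isAffine _
  have (i j : Over i0) (φ : i ⟶ j) : IsAffineHom (sysMap D i0 f0 φ) := isAffineHom_of_isAffine _
  have hgsnd : ∀ j : Over i0, gX j ≫ pullback.snd (D.map j.hom) f0 = pX := fun j => by
    rw [Category.assoc, sysπ_snd, IsPullback.isoPullback_hom_snd]
  have hgfst : ∀ j : Over i0, gX j ≫ pullback.fst (D.map j.hom) f0 = f ≫ c.π.app j.left := fun j => by
    rw [Category.assoc, sysπ_fst, ← Category.assoc, IsPullback.isoPullback_hom_fst]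
  have hgmap : ∀ {j j' : Over i0} (φ : j ⟶ j'), gX j ≫ sysMap D i0 f0 φ = gX j' := fun φ => by
    rw [Category.assoc, sysπ_sysMap]
  -- descend the level sets
  have hfin : (Set.range w).Finite := finite_range_weighting f w hw
  let o : Over i0 := Over.mk (𝟙 i0)
  have hlev : ∀ n : ℤ, ∃ (j : Over i0) (E : Set (P j)),
      IsConstructible E ∧ ⇑(gX j) ⁻¹' E = w ⁻¹' {n} := fun n => by
    obtain ⟨j, -, E, hE, hEn⟩ := Limits.exists_isConstructible_preimage (baseSys D i0 f0) XX hXX (i₀ := o)
      (isLocallyConstructible_weighting f w hw {n}).isConstructible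
    exact ⟨j, E, hE, hEn⟩
  choose J E hE hEn using hlev
  obtain ⟨j1, hj1⟩ := IsCofiltered.inf_objs_exists (hfin.toFinset.image J)
  have hmap : ∀ n : hfin.toFinset, Nonempty (j1 ⟶ J n.1) := fun n =>
    hj1 (Finset.mem_image_of_mem J n.2)
  let E1 : hfin.toFinset → Set (P j1) := fun n => ⇑(sysMap D i0 f0 (hmap n).some) ⁻¹' E n.1
  let w1 : P j1 → ℤ := fun x => ∑ n : hfin.toFinset, if x ∈ E1 n then (n.1 : ℤ) else 0
  have hw1 : @IsLocallyConstant _ ℤ (constructibleTopology (P j1)) w1 := by
    have := spectralSpace_of_isAffine (P j1)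
    have hE1 : ∀ n : hfin.toFinset, IsClosed[constructibleTopology (P j1)] (E1 n) ∧
        IsOpen[constructibleTopology (P j1)] (E1 n) := fun n => by
      have := spectralSpace_of_isAffine (P (J n.1))
      have hh := isClopen_ct_of_isConstructible (hE n.1)
      have hcont := continuous_ct (sysMap D i0 f0 (hmap n).some).isSpectralMap
      exact ⟨@IsClosed.preimage _ _ (constructibleTopology (P j1))
          (constructibleTopology (P (J n.1))) _ hcont _ hh.1,
        @IsOpen.preimage _ _ (constructibleTopology (P j1))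
          (constructibleTopology (P (J n.1))) _ hcont _ hh.2⟩
    refine (@IsLocallyConstant.iff_eventually_eq _ _ (constructibleTopology (P j1)) _).mpr
      fun x => ?_
    have hx : ∀ᶠ y in @nhds _ (constructibleTopology (P j1)) x,
        ∀ n : hfin.toFinset, (y ∈ E1 n ↔ x ∈ E1 n) := by
      refine Filter.eventually_all.mpr fun n => ?_
      by_cases hxn : x ∈ E1 n
      · exact Filter.mem_of_superset (@IsOpen.mem_nhds _ (constructibleTopology (P j1)) _ _
          (hE1 n).2 hxn) fun y hy => iff_of_true hy hxn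
      · exact Filter.mem_of_superset (@IsOpen.mem_nhds _ (constructibleTopology (P j1)) _ _
          ((@isOpen_compl_iff _ _ (constructibleTopology (P j1))).mpr (hE1 n).1) hxn)
          fun y hy => iff_of_false hy hxn
    filter_upwards [hx] with y hy
    exact Finset.sum_congr rfl fun n _ => if_congr (hy n) rfl rfl
  have hw1w : ∀ x, w1 (gX j1 x) = w x := fun x => by
    have hmem : ∀ n : hfin.toFinset, gX j1 x ∈ E1 n ↔ w x = n.1 := fun n => by
      have hwn : gX j1 ≫ sysMap D i0 f0 (hmap n).some = gX (J n.1) := hgmap _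
      show sysMap D i0 f0 (hmap n).some (gX j1 x) ∈ E n.1 ↔ _
      rw [← Scheme.Hom.comp_apply, hwn, ← Set.mem_preimage, hEn]
      rfl
    show ∑ n : hfin.toFinset, (if gX j1 x ∈ E1 n then (n.1 : ℤ) else 0) = w x
    rw [Finset.sum_eq_single (⟨w x, hfin.mem_toFinset.mpr ⟨x, rfl⟩⟩ : hfin.toFinset)
      (fun n _ hn => if_neg fun h => hn (Subtype.ext ((hmem n).mp h).symm))
      (fun h => absurd (Finset.mem_univ _) h), if_pos ((hmem _).mpr rfl)]
  -- finitely many charts at the stage `j1`
  let i1 := j1.left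
  let b1 := D.map j1.hom
  let f1 : P j1 ⟶ D.obj i1 := pullback.fst b1 f0
  have hX1 : IsPullback (pullback.snd b1 f0) f1 f0 b1 := (IsPullback.of_hasPullback b1 f0).flip
  have : LocallyQuasiFinite f1 := MorphismProperty.of_isPullback hX1 ‹_›
  have : LocallyOfFinitePresentation f1 := MorphismProperty.of_isPullback hX1 ‹_›
  have : IsAffine (P j1) := inferInstance
  obtain ⟨N, V, k, A, hVkA, hcharts⟩ := exists_finite_charts f1
  have hXsq : IsPullback (gX j1) f f1 (c.π.app i1) := by
    refine IsPullback.of_right (h₁₂ := pullback.snd b1 f0) (v₁₃ := f0) (h₂₂ := b1) ?_ (hgfst j1) hX1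
    rw [hgsnd, show c.π.app i1 ≫ b1 = c.π.app i0 from c.w j1.hom]
    exact hX
  have hgood : ∀ m, ∃ j : Over i1, ∀ j' : Over i1, (j' ⟶ j) →
      IsLocallyConstant fun x => openIntegral (pullback.snd f1 (k m)) (A m)
        (fun z => w1 (pullback.fst f1 (k m) z)) (pullback.snd (D.map j'.hom) (k m) x) := by
    intro m
    obtain ⟨hV, hk, hA⟩ := hVkA m
    have := hV
    have := hk
    have := hA
    have : IsAffine (A m).toScheme := isAffine_of_isAffineHom ((A m).ι ≫ pullback.snd f1 (k m))
    let kk := pullback.fst (c.π.app i1) (k m)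
    let aa := pullback.snd (c.π.app i1) (k m)
    have hkk : kk ≫ c.π.app i1 = aa ≫ k m := pullback.condition
    obtain ⟨hfinA, hint⟩ := openIntegral_baseChange (isPullback_pullBase hXsq hkk) (A m)
    have := hfinA
    refine exists_isLocallyConstant_stage D c hc i1 (k m) _ ?_ ?_
    · exact isLocallyConstant_ct_fibreIntegral _ _
        (isLocallyConstant_ct_comp ((A m).ι ≫ pullback.fst f1 (k m)) w1 hw1)
    · have h := isLocallyConstant_openIntegral f w hw kk (pullBase hXsq.w hkk ⁻¹ᵁ A m)
      convert h using 1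
      funext t
      rw [← hint]
      congr 1
      funext z
      rw [← hw1w, ← Scheme.Hom.comp_apply, ← Scheme.Hom.comp_apply]
      rw [show pullBase hXsq.w hkk ≫ pullback.fst f1 (k m) = pullback.fst f kk ≫ gX j1 from
        pullback.lift_fst _ _ _]
  choose J' hJ' using hgood
  obtain ⟨j2, hj2⟩ := IsCofiltered.inf_objs_exists (Finset.univ.image J')
  let φ : j2.left ⟶ i1 := j2.hom
  let j : Over i0 := Over.mk (φ ≫ j1.hom)
  let fi : P j ⟶ D.obj j2.left := pullback.fst (D.map (φ ≫ j1.hom)) f0
  let pi' : P j ⟶ X0 := pullback.snd (D.map (φ ≫ j1.hom)) f0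
  let hm : j ⟶ j1 := Over.homMk φ rfl
  have hXi : IsPullback pi' fi f0 (D.map (φ ≫ j1.hom)) :=
    (IsPullback.of_hasPullback (D.map (φ ≫ j1.hom)) f0).flip
  have hsq : IsPullback (sysMap D i0 f0 hm) fi f1 (D.map φ) := by
    refine IsPullback.of_right (h₁₂ := pullback.snd b1 f0) (v₁₃ := f0) (h₂₂ := b1) ?_ ?_ hX1
    · rw [show sysMap D i0 f0 hm ≫ pullback.snd b1 f0 = pi' from sysMap_snd D i0 f0 hm,
        ← Functor.map_comp]
      exact hXi
    · exact sysMap_fst D i0 f0 hm
  refine ⟨j2.left, φ ≫ j1.hom, P j, fi, pi', gX j, fun x => w1 (sysMap D i0 f0 hm x), hXi, hgfst j,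
    hgsnd j, ?_, fun x => ?_⟩
  · have : LocallyQuasiFinite fi := MorphismProperty.of_isPullback hXi ‹LocallyQuasiFinite f0›
    have : LocallyOfFinitePresentation fi :=
      MorphismProperty.of_isPullback hXi ‹LocallyOfFinitePresentation f0›
    refine isWeighting_of_goodPieces fi _ fun x => ?_
    obtain ⟨m, v, Q, hQA, hQx⟩ := hcharts (sysMap D i0 f0 hm x)
    have := (hVkA m).2.1
    have := (hVkA m).2.2
    let kk := pullback.fst (D.map φ) (k m)
    let aa := pullback.snd (D.map φ) (k m)
    have hkk : kk ≫ D.map φ = aa ≫ k m := pullback.condition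
    let q := pullBase hsq.w hkk
    have hq := isPullback_pullBase hsq hkk
    have hq' : IsPullback q (pullback.fst fi kk) (pullback.fst f1 (k m)) (sysMap D i0 f0 hm) := by
      refine IsPullback.of_bot ?_ (pullback.lift_fst _ _ _) hsq
      rw [pullback.condition (f := fi) (g := kk), pullback.condition (f := f1) (g := k m)]
      exact hq.paste_vert (IsPullback.of_hasPullback (D.map φ) (k m)).flip
    obtain ⟨z, hz, hzx⟩ := exists_preimage_of_isPullback hq' hQx
    obtain ⟨Q', hQ'o, hQ'p⟩ := Q.exists_baseChange_sq hq z hz rfl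
    refine ⟨_, kk, _, inferInstance, Q', by rw [hQ'p, hzx], ?_⟩
    obtain ⟨χ⟩ := hj2 (Finset.mem_image_of_mem J' (Finset.mem_univ m))
    have h := hJ' m j2 χ
    convert h using 1
    funext t
    rw [hQ'o, hQA, ← (openIntegral_baseChange hq (A m)).2]
    congr 1
    funext z
    show w1 (sysMap D i0 f0 hm (pullback.fst fi kk z)) = w1 (pullback.fst f1 (k m) (q z))
    rw [← Scheme.Hom.comp_apply, ← Scheme.Hom.comp_apply,
      show q ≫ pullback.fst f1 (k m) = pullback.fst fi kk ≫ sysMap D i0 f0 hm from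
        pullback.lift_fst _ _ _]
  · show w1 (sysMap D i0 f0 hm (gX j x)) = w x
    rw [← Scheme.Hom.comp_apply, hgmap, hw1w]

end Groth.FlatMor2
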