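import Groth.Agent.FlatMor2.Weighting.Pieces
import Groth.Agent.FlatmorThree.WeightingBasic
import Mathlib.AlgebraicGeometry.Morphisms.UniversallyOpen

/-!
# Weightings: base change, composition, universal openness
-/

set_option autoImplicit false

universe u

open CategoryTheory CategoryTheory.Limits AlgebraicGeometry Topology Filter

namespace Groth.FlatMor2

variable {X Y : Scheme.{u}}

/-- A weighting has locally constant integrals on finite opens of any base change. -/
theorem isLocallyConstant_openIntegral (f : X ⟶ Y) [LocallyQuasiFinite f] [LocallyOfFiniteType f]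
    (w : X → ℤ) (hw : MoreMor.IsWeighting f w) {V : Scheme.{u}} (k : V ⟶ Y) (U : (pullback f k).Opens)
    [IsFinite (U.ι ≫ pullback.snd f k)] :
    IsLocallyConstant (openIntegral (pullback.snd f k) U (fun x => w (pullback.fst f k x))) := by
  refine (IsLocallyConstant.iff_eventually_eq _).mpr fun v => ?_
  let s := pullback.fst f k '' ((U : Set ↑(pullback f k)) ∩ pullback.snd f k ⁻¹' {v})
  have hfib : ((U : Set ↑(pullback f k)) ∩ pullback.snd f k ⁻¹' {v}).Finite := by
    refine (((U.ι ≫ pullback.snd f k).finite_preimage_singleton v).image U.ι).subset ?_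
    rintro x ⟨hx, hxv⟩
    exact ⟨⟨x, hx⟩, by simpa using hxv, rfl⟩
  have hsy : ∀ x ∈ s, f x = k v := by
    rintro _ ⟨x, ⟨-, rfl⟩, rfl⟩
    exact congr($(pullback.condition (f := f) (g := k)) x)
  obtain ⟨V', a, v', ha, hav, J, _, Q, hinj, -, hcov, hlc⟩ :=
    exists_pieces_over f k v s (hfib.image _) hsy
  let q := pullMap f a (rfl : a ≫ k = a ≫ k)
  obtain ⟨hfin, hint⟩ := openIntegral_baseChange (isPullback_pullMap f a rfl) U
  have hint' : ∀ t, openIntegral (pullback.snd f (a ≫ k)) (q ⁻¹ᵁ U)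
      (fun x => w (pullback.fst f (a ≫ k) x)) t =
      openIntegral (pullback.snd f k) U (fun x => w (pullback.fst f k x)) (a t) := fun t => by
    rw [← hint]
    congr 1
    funext x
    rw [fst_pullMap]
  let J' := {j : J // (Q j).pt ∈ q ⁻¹ᵁ U}
  have key := eventually_openIntegral_eq (pullback.snd f (a ≫ k)) v' (q ⁻¹ᵁ U)
    (fun j : J' => (Q j.1).opens) (fun j => (Q j.1).finite)
    (fun j x hx hxv => (Q j.1).eq_pt x hx hxv ▸ j.2)
    (fun x hx hxv => by
      obtain ⟨j, rfl⟩ := hcov x hxv ⟨pullMap f a rfl x,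
        ⟨hx, by rw [Set.mem_preimage, snd_pullMap, hxv, hav]; rfl⟩, fst_pullMap f a rfl x⟩
      exact ⟨⟨j, hx⟩, (Q j).pt_mem⟩)
    (fun i j hij x hxv hi hj => hij (Subtype.ext (hinj
      (((Q i.1).eq_pt x hi hxv).symm.trans ((Q j.1).eq_pt x hj hxv)))))
    (fun x => w (pullback.fst f (a ≫ k) x))
  have hconst : ∀ᶠ t in 𝓝 v', ∀ j : J', openIntegral (pullback.snd f (a ≫ k)) (Q j.1).opens
      (fun x => w (pullback.fst f (a ≫ k) x)) t = openIntegral (pullback.snd f (a ≫ k)) (Q j.1).opens
      (fun x => w (pullback.fst f (a ≫ k) x)) v' :=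
    Filter.eventually_all.mpr fun j => (IsLocallyConstant.iff_eventually_eq _).mp (hlc w hw j.1) v'
  have hev : ∀ᶠ t in 𝓝 v', openIntegral (pullback.snd f k) U (fun x => w (pullback.fst f k x)) (a t)
      = openIntegral (pullback.snd f k) U (fun x => w (pullback.fst f k x)) v := by
    have h0 := key.self_of_nhds
    filter_upwards [key, hconst] with t ht htc
    rw [← hint', ht, finsum_congr htc, ← h0, hint', hav]
  have : v ∈ interior {t | openIntegral (pullback.snd f k) U (fun x => w (pullback.fst f k x)) t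
      = openIntegral (pullback.snd f k) U (fun x => w (pullback.fst f k x)) v} := by
    obtain ⟨N, hN, hNo, hvN⟩ := eventually_nhds_iff.mp hev
    exact mem_interior.mpr ⟨a '' N, by rintro _ ⟨t, ht, rfl⟩; exact hN t ht,
      a.isOpenMap _ hNo, v', hvN, hav⟩
  exact mem_interior_iff_mem_nhds.mp this

/-- A weighting has locally constant integrals on finite morphisms factoring through an open
immersion into a base change. -/
theorem isLocallyConstant_fibreIntegral (f : X ⟶ Y) [LocallyQuasiFinite f] [LocallyOfFiniteType f]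
    (w : X → ℤ) (hw : MoreMor.IsWeighting f w) {C B : Scheme.{u}} (χ : C ⟶ B) [IsFinite χ]
    (d : C ⟶ X) (c : B ⟶ Y) (h : d ≫ f = χ ≫ c) [IsOpenImmersion (pullback.lift d χ h)] :
    IsLocallyConstant (MoreMor.fibreIntegral χ (fun z => w (d z))) := by
  let j := pullback.lift d χ h
  let e := j.isoOpensRange
  have hj : e.hom ≫ j.opensRange.ι = j := j.isoOpensRange_hom_ι
  have he : e.hom ≫ j.opensRange.ι ≫ pullback.snd f c = χ := by
    rw [← Category.assoc, hj]; exact pullback.lift_snd _ _ _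
  have : IsFinite (j.opensRange.ι ≫ pullback.snd f c) :=
    (MorphismProperty.cancel_left_of_respectsIso @IsFinite e.hom _).mp (by rw [he]; infer_instance)
  convert isLocallyConstant_openIntegral f w hw c j.opensRange using 1
  funext t
  rw [openIntegral, ← FlatmorThree.fibreIntegral_iso e.hom]
  have hd : ∀ z, d z = pullback.fst f c (j.opensRange.ι (e.hom z)) := fun z => by
    rw [← Scheme.Hom.comp_apply, ← Scheme.Hom.comp_apply, ← Category.assoc, hj, pullback.lift_fst]
  simp only [hd, he]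

/-- Weightings are stable under base change. -/
theorem isWeighting_baseChange (f : X ⟶ Y) [LocallyQuasiFinite f] [LocallyOfFiniteType f]
    (w : X → ℤ) (hw : MoreMor.IsWeighting f w) {X' Y' : Scheme.{u}} (f' : X' ⟶ Y') (h : X' ⟶ X)
    (g : Y' ⟶ Y) (hc : IsPullback h f' f g) : MoreMor.IsWeighting f' (w ∘ ⇑h) := by
  intro V g' _ U hU
  have hK : IsPullback (pullback.fst f' g' ≫ h) (pullback.snd f' g') f (g' ≫ g) :=
    (IsPullback.of_hasPullback f' g').paste_horiz hc
  have : IsOpenImmersion (pullback.lift (U.ι ≫ pullback.fst f' g' ≫ h) (U.ι ≫ pullback.snd f' g')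
      (g := g' ≫ g) (by rw [Category.assoc, hK.w, Category.assoc])) := by
    have e : pullback.lift (U.ι ≫ pullback.fst f' g' ≫ h) (U.ι ≫ pullback.snd f' g')
      (g := g' ≫ g) (by rw [Category.assoc, hK.w, Category.assoc]) = U.ι ≫ hK.isoPullback.hom := by
      apply pullback.hom_ext
      · exact (pullback.lift_fst _ _ _).trans ((Category.assoc _ _ _).trans (congrArg (U.ι ≫ ·) hK.isoPullback_hom_fst)).symm
      · exact (pullback.lift_snd _ _ _).trans ((Category.assoc _ _ _).trans (congrArg (U.ι ≫ ·) hK.isoPullback_hom_snd)).symm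
    rw [e]; infer_instance
  exact isLocallyConstant_fibreIntegral f w hw (U.ι ≫ pullback.snd f' g')
    (U.ι ≫ pullback.fst f' g' ≫ h) (g' ≫ g) _

section Composition

variable {C B V : Scheme.{u}} (χ : C ⟶ B) (π : B ⟶ V) [IsFinite χ] [IsFinite π]

/-- Fubini for fibre integrals. -/
theorem fibreIntegral_comp (w : C → ℤ) (u : B → ℤ) (t : V) :
    MoreMor.fibreIntegral (χ ≫ π) (fun c => w c * u (χ c)) t =
      MoreMor.fibreIntegral π (fun b => MoreMor.fibreIntegral χ w b * u b) t := by
  classical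
  let vb := algClosurePt t
  have := finite_geomPt π vb (π.finite_preimage_singleton _)
  have := finite_geomPt (χ ≫ π) vb ((χ ≫ π).finite_preimage_singleton _)
  have : ∀ τ : GeomPt π vb, Finite (GeomPt χ τ.1) :=
    fun τ => finite_geomPt χ τ.1 (χ.finite_preimage_singleton _)
  have := Fintype.ofFinite (GeomPt π vb)
  have := fun τ : GeomPt π vb => Fintype.ofFinite (GeomPt χ τ.1)
  have := Fintype.ofFinite (GeomPt (χ ≫ π) vb)
  rw [fibreIntegral_eq_sum (χ ≫ π) vb _ (ptOf_algClosurePt t),
    fibreIntegral_eq_sum π vb _ (ptOf_algClosurePt t), finsum_eq_sum_of_fintype,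
    finsum_eq_sum_of_fintype]
  let e : (Σ τ : GeomPt π vb, GeomPt χ τ.1) ≃ GeomPt (χ ≫ π) vb :=
    { toFun := fun p => ⟨p.2.1, by rw [← Category.assoc, p.2.2, p.1.2]⟩
      invFun := fun σ => ⟨⟨σ.1 ≫ χ, by rw [Category.assoc, σ.2]⟩, ⟨σ.1, rfl⟩⟩
      left_inv := fun ⟨⟨τ, hτ⟩, ⟨σ, (hσ : σ ≫ χ = τ)⟩⟩ => by subst hσ; rfl
      right_inv := fun σ => rfl }
  rw [← e.sum_comp, Fintype.sum_sigma]
  refine Finset.sum_congr rfl fun τ _ => ?_
  rw [fibreIntegral_eq_sum χ τ.1 w (v := ptOf τ.1) rfl, finsum_eq_sum_of_fintype, Finset.sum_mul]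
  refine Finset.sum_congr rfl fun σ _ => ?_
  show w (ptOf σ.1) * u (χ (ptOf σ.1)) = _
  rw [σ.apply_ptOf]

lemma fibreIntegral_eq_zero (w : C → ℤ) (b : B) (h : ∀ c, χ c ≠ b) :
    MoreMor.fibreIntegral χ w b = 0 := by
  have : IsEmpty {c : C // χ c = b} := ⟨fun c => h c.1 c.2⟩
  exact finsum_of_isEmpty _

end Composition

section CompPiece

variable {Z : Scheme.{u}} (f : X ⟶ Y) (g : Y ⟶ Z) [LocallyQuasiFinite f] [LocallyOfFiniteType f]
  [LocallyQuasiFinite g] [LocallyOfFiniteType g] (wf : X → ℤ) (wg : Y → ℤ)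
  (hf : MoreMor.IsWeighting f wf) (hg : MoreMor.IsWeighting g wg) {V : Scheme.{u}} (k : V ⟶ Z)

/-- The comparison of the base changes of `f ≫ g` and `g`. -/
noncomputable def pullPush : pullback (f ≫ g) k ⟶ pullback g k :=
  pullback.lift (pullback.fst (f ≫ g) k ≫ f) (pullback.snd (f ≫ g) k)
    (by rw [Category.assoc, pullback.condition])

lemma fst_pullPush (x : ↑(pullback (f ≫ g) k)) :
    pullback.fst g k (pullPush f g k x) = f (pullback.fst (f ≫ g) k x) := by
  rw [← Scheme.Hom.comp_apply, pullPush, pullback.lift_fst, Scheme.Hom.comp_apply]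

lemma snd_pullPush (x : ↑(pullback (f ≫ g) k)) :
    pullback.snd g k (pullPush f g k x) = pullback.snd (f ≫ g) k x := by
  rw [← Scheme.Hom.comp_apply, pullPush, pullback.lift_snd]

lemma isPullback_pullPush :
    IsPullback (pullback.fst (f ≫ g) k) (pullPush f g k) f (pullback.fst g k) :=
  .of_bot (by rw [pullPush, pullback.lift_snd]; exact IsPullback.of_hasPullback (f ≫ g) k)
    (pullback.lift_fst _ _ _).symm (IsPullback.of_hasPullback g k)

include hf hg in
lemma comp_piece_aux (v : V) (C : (pullback (f ≫ g) k).Opens) [IsFinite (C.ι ≫ pullback.snd (f ≫ g) k)]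
    (z : ↑(pullback (f ≫ g) k)) (hz : ∀ x ∈ C, pullback.snd (f ≫ g) k x = v → x = z)
    (B : (pullback g k).Opens) [IsFinite (B.ι ≫ pullback.snd g k)] (hCB : C ≤ pullPush f g k ⁻¹ᵁ B)
    (hzC : z ∈ C) :
    ∀ᶠ t in 𝓝 v, openIntegral (pullback.snd (f ≫ g) k) C (fun x => wf (pullback.fst (f ≫ g) k x) *
      wg (f (pullback.fst (f ≫ g) k x))) t = openIntegral (pullback.snd (f ≫ g) k) C
      (fun x => wf (pullback.fst (f ≫ g) k x) * wg (f (pullback.fst (f ≫ g) k x))) v := by
  have hr : Set.range (C.ι ≫ pullPush f g k) ⊆ Set.range B.ι := by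
    rintro _ ⟨x, rfl⟩
    rw [Scheme.Opens.range_ι, Scheme.Hom.comp_apply]
    exact hCB x.2
  let χ := IsOpenImmersion.lift B.ι (C.ι ≫ pullPush f g k) hr
  have hχ : χ ≫ B.ι = C.ι ≫ pullPush f g k := IsOpenImmersion.lift_fac _ _ _
  have hχs : χ ≫ B.ι ≫ pullback.snd g k = C.ι ≫ pullback.snd (f ≫ g) k := by
    rw [← Category.assoc, hχ, Category.assoc, pullPush, pullback.lift_snd]
  have : IsFinite (χ ≫ B.ι ≫ pullback.snd g k) := by rw [hχs]; infer_instance
  have : IsFinite χ := IsFinite.of_comp χ (B.ι ≫ pullback.snd g k)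
  have hw : (C.ι ≫ pullback.fst (f ≫ g) k) ≫ f = χ ≫ B.ι ≫ pullback.fst g k := by
    rw [← Category.assoc χ, hχ, Category.assoc, Category.assoc, pullPush, pullback.lift_fst]
  have : IsOpenImmersion (pullback.lift (C.ι ≫ pullback.fst (f ≫ g) k) χ hw) := by
    let m := pullback.map f (B.ι ≫ pullback.fst g k) f (pullback.fst g k) (𝟙 X) B.ι (𝟙 Y)
      (by simp) (by simp)
    have e : pullback.lift (C.ι ≫ pullback.fst (f ≫ g) k) χ hw ≫ m =
        C.ι ≫ (isPullback_pullPush f g k).isoPullback.hom := by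
      apply pullback.hom_ext
      · rw [Category.assoc, Category.assoc, IsPullback.isoPullback_hom_fst]
        dsimp only [m]
        erw [pullback.lift_fst]
        rw [Category.comp_id]
        exact pullback.lift_fst _ _ _
      · rw [Category.assoc, Category.assoc, IsPullback.isoPullback_hom_snd]
        dsimp only [m]
        erw [pullback.lift_snd]
        rw [← Category.assoc, pullback.lift_snd, hχ]
    have : IsOpenImmersion m := inferInstance
    have : IsOpenImmersion (pullback.lift (C.ι ≫ pullback.fst (f ≫ g) k) χ hw ≫ m) := by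
      rw [e]; infer_instance
    exact IsOpenImmersion.of_comp _ m
  have hlc := isLocallyConstant_fibreIntegral f wf hf χ (C.ι ≫ pullback.fst (f ≫ g) k)
    (B.ι ≫ pullback.fst g k) hw
  set h := MoreMor.fibreIntegral χ (fun c => wf ((C.ι ≫ pullback.fst (f ≫ g) k) c))
  let c0 := h (χ ⟨z, hzC⟩)
  let Bc : B.toScheme.Opens := ⟨h ⁻¹' {c0}, hlc _⟩
  let B' := B.ι ''ᵁ Bc
  have : IsFinite (B'.ι ≫ pullback.snd g k) := by
    have hBc : IsClosedImmersion Bc.ι := .of_isPreimmersion _ (by
      rw [Scheme.Opens.range_ι]; exact (hlc.isClopen_fiber c0).isClosed)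
    have : IsFinite (Bc.ι ≫ B.ι ≫ pullback.snd g k) := inferInstance
    rw [← MorphismProperty.cancel_left_of_respectsIso @IsFinite (B.ι.isoImage Bc).hom]
    rwa [Scheme.Hom.isoImage_hom_ι_assoc]
  have hI := (IsLocallyConstant.iff_eventually_eq _).mp
    (isLocallyConstant_openIntegral g wg hg k B') v
  have hB' := eventually_subset (pullback.snd (f ≫ g) k) v C (pullPush f g k ⁻¹ᵁ B')
    (fun x hx hxv => by
      obtain rfl := hz x hx hxv
      refine ⟨χ ⟨x, hzC⟩, rfl, ?_⟩
      exact congr($hχ ⟨x, hzC⟩))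
  have key : ∀ᶠ t in 𝓝 v, openIntegral (pullback.snd (f ≫ g) k) C (fun x => wf (pullback.fst (f ≫ g) k x) *
      wg (f (pullback.fst (f ≫ g) k x))) t =
      c0 * openIntegral (pullback.snd g k) B' (fun y => wg (pullback.fst g k y)) t := by
    filter_upwards [hB'] with t ht
    let vb := algClosurePt t
    have h1 : openIntegral (pullback.snd (f ≫ g) k) C (fun x => wf (pullback.fst (f ≫ g) k x) *
      wg (f (pullback.fst (f ≫ g) k x))) t =
        openIntegral (pullback.snd g k) B (fun y => (Function.extend B.ι h 0 y) * wg (pullback.fst g k y)) t := by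
      rw [openIntegral, openIntegral]
      have := fibreIntegral_comp χ (B.ι ≫ pullback.snd g k)
        (fun c => wf ((C.ι ≫ pullback.fst (f ≫ g) k) c)) (fun b => wg (pullback.fst g k (B.ι b))) t
      simp only [hχs] at this
      convert this using 2
      · funext c
        rw [← fst_pullPush f g k, ← Scheme.Hom.comp_apply χ B.ι, hχ]
        rfl
      · funext b
        rw [B.ι.isOpenEmbedding.injective.extend_apply]
    rw [h1, openIntegral_eq_sum _ B vb _ (ptOf_algClosurePt t),
      openIntegral_eq_sum _ B' vb _ (ptOf_algClosurePt t),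
      finsum_mem_eq_finite_toFinset_sum _ (finite_openPts _ B vb),
      finsum_mem_eq_finite_toFinset_sum _ (finite_openPts _ B' vb), Finset.mul_sum]
    symm
    refine (Finset.sum_congr rfl fun τ hτ => ?_).trans (Finset.sum_subset ?_ ?_)
    · obtain ⟨b, hb, hbτ⟩ := (Set.Finite.mem_toFinset _).mp hτ
      rw [show ptOf τ.1 = B.ι b from hbτ.symm, B.ι.isOpenEmbedding.injective.extend_apply, show h b = c0 from hb]
    · intro τ hτ
      rw [Set.Finite.mem_toFinset] at hτ ⊢
      obtain ⟨b, -, hbτ⟩ := hτ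
      exact show ptOf τ.1 ∈ B from hbτ ▸ b.2
    · intro τ hτB hτ
      rw [Set.Finite.mem_toFinset] at hτ hτB
      refine mul_eq_zero_of_left ?_ _
      rw [show ptOf τ.1 = B.ι ⟨_, hτB⟩ from rfl, B.ι.isOpenEmbedding.injective.extend_apply]
      refine fibreIntegral_eq_zero _ _ _ fun c hc => hτ ?_
      have hc' : pullPush f g k (C.ι c) = ptOf τ.1 :=
        (congr($hχ c)).symm.trans (congrArg B.ι hc)
      show ptOf τ.1 ∈ B'
      rw [← hc']
      refine ht _ c.2 ?_
      rw [← snd_pullPush f g k]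
      exact (congr(pullback.snd g k $hc')).trans (τ.apply_ptOf.trans (ptOf_algClosurePt t))
  filter_upwards [key, hI] with t h1 h2
  rw [h1, h2, key.self_of_nhds]

end CompPiece

end Groth.FlatMor2
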