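import Groth.Agent.FlatMor2.Weighting.Constructible
import Groth.Agent.FlatMor2.QuasiAffineChevalley
import Mathlib.AlgebraicGeometry.IdealSheaf.Subscheme

/-!
# The locus of maximal fibre integral is affine

If `d` is the maximum of the fibre integral of a positive weighting of a quasi-finite morphism
`f : X ⟶ Y` of affines, the tuples in `X ^ d` in which every point occurs at most as often as its
weight form a closed subset, finite and surjective over the locus where the integral equals `d`.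
-/

set_option autoImplicit false

universe u

open CategoryTheory CategoryTheory.Limits AlgebraicGeometry Topology Filter

namespace Groth.FlatMor2

variable {X Y : Scheme.{u}}

/-- Field-valued points agree if they agree after a field extension. -/
lemma specField_cancel {K L : CommRingCat.{u}} (hK : IsField K) (hL : IsField L) (φ : K ⟶ L)
    {g₁ g₂ : Spec K ⟶ X} (h : Spec.map φ ≫ g₁ = Spec.map φ ≫ g₂) : g₁ = g₂ := by
  let := hK.toField
  let := hL.toField
  obtain ⟨x₁, α₁, rfl⟩ := Flatmor4.exists_spec_field_factor (K := K) g₁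
  obtain ⟨x₂, α₂, rfl⟩ := Flatmor4.exists_spec_field_factor (K := K) g₂
  rw [← Category.assoc, ← Category.assoc, ← Spec.map_comp, ← Spec.map_comp] at h
  obtain ⟨q⟩ : Nonempty (PrimeSpectrum L) := inferInstance
  obtain rfl : x₁ = x₂ :=
    (Flatmor4.specMap_fromSpecResidueField_apply (α₁ ≫ φ) q).symm.trans
      ((congrArg (fun g : Spec (CommRingCat.of L) ⟶ X => g q) h).trans
        (Flatmor4.specMap_fromSpecResidueField_apply (α₂ ≫ φ) q))
  have h' := Flatmor4.specMap_fromSpecResidueField_inj (K := L) h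
  have : Mono φ := ConcreteCategory.mono_of_injective φ φ.hom.injective
  rw [(cancel_mono φ).mp h']

/-- Equality of two morphisms at a point, tested on any field-valued point above it. -/
lemma eqAt_iff {P : Scheme.{u}} {Ω : Type u} [Field Ω] (σ : Spec (CommRingCat.of Ω) ⟶ P) {p : P}
    (hp : ptOf σ = p) (a b : P ⟶ X) :
    P.fromSpecResidueField p ≫ a = P.fromSpecResidueField p ≫ b ↔ σ ≫ a = σ ≫ b := by
  obtain ⟨φ, rfl⟩ := exists_factor_at σ hp
  simp only [Category.assoc]
  exact ⟨fun h => by rw [h], fun h =>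
    specField_cancel (Semifield.toIsField _) (Semifield.toIsField Ω) φ h⟩

/-- A substitute for the `d`-fold fibre power of `f`. -/
lemma exists_power (f : X ⟶ Y) [IsAffine X] [IsAffine Y] (U : Y.Opens) [IsFinite (f ∣_ U)] (d : ℕ) :
    ∃ (P : Scheme.{u}) (b : P ⟶ Y) (π : Fin d → (P ⟶ X)), IsAffine P ∧ (∀ i, π i ≫ f = b) ∧
      IsFinite (b ∣_ U) ∧ ∀ {T : Scheme.{u}} (c : T ⟶ Y) (s : Fin d → (T ⟶ X)), (∀ i, s i ≫ f = c) →
        ∃ m : T ⟶ P, m ≫ b = c ∧ ∀ i, m ≫ π i = s i := by
  induction d with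
  | zero =>
    exact ⟨Y, 𝟙 Y, Fin.elim0, inferInstance, fun i => i.elim0, inferInstance,
      fun c s _ => ⟨c, Category.comp_id c, fun i => i.elim0⟩⟩
  | succ d ih =>
    obtain ⟨P, b, π, hP, hπ, hfin, hlift⟩ := ih
    refine ⟨pullback b f, pullback.fst b f ≫ b,
      Fin.cons (pullback.snd b f) (fun i => pullback.fst b f ≫ π i), inferInstance, ?_, ?_, ?_⟩
    · intro i
      refine Fin.cases ?_ (fun i => ?_) i
      · simp [pullback.condition]
      · simp [hπ]
    · rw [morphismRestrict_comp]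
      have : IsFinite (pullback.fst b f ∣_ b ⁻¹ᵁ U) := by
        have h1 : IsPullback ((pullback.fst b f ⁻¹ᵁ (b ⁻¹ᵁ U)).ι ≫ pullback.snd b f)
            (pullback.fst b f ∣_ b ⁻¹ᵁ U) f ((b ⁻¹ᵁ U).ι ≫ b) :=
          (isPullback_morphismRestrict (pullback.fst b f) (b ⁻¹ᵁ U)).flip.paste_horiz
            (IsPullback.of_hasPullback b f).flip
        let l := IsOpenImmersion.lift (f ⁻¹ᵁ U).ι
          ((pullback.fst b f ⁻¹ᵁ (b ⁻¹ᵁ U)).ι ≫ pullback.snd b f) (by
            rintro _ ⟨z, rfl⟩
            rw [Scheme.Opens.range_ι]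
            show f (pullback.snd b f z.1) ∈ U
            rw [← Scheme.Hom.comp_apply, ← pullback.condition, Scheme.Hom.comp_apply]
            exact z.2)
        have h2 : IsPullback l (pullback.fst b f ∣_ b ⁻¹ᵁ U) (f ∣_ U) (b ∣_ U) := by
          refine .of_right (t := (isPullback_morphismRestrict f U).flip) ?_ ?_
          · rw [IsOpenImmersion.lift_fac, morphismRestrict_ι]; exact h1
          · rw [← cancel_mono U.ι, Category.assoc, morphismRestrict_ι, Category.assoc,
              morphismRestrict_ι, IsOpenImmersion.lift_fac_assoc, ← Category.assoc, h1.w, Category.assoc]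
        exact MorphismProperty.of_isPullback h2 ‹_›
      exact MorphismProperty.comp_mem @IsFinite _ _ this hfin
    · intro T c s hs
      obtain ⟨m, hm, hm'⟩ := hlift c (fun i => s i.succ) fun i => hs _
      refine ⟨pullback.lift m (s 0) (by rw [hm, hs]), by rw [pullback.lift_fst_assoc, hm], fun i => ?_⟩
      refine Fin.cases ?_ (fun i => ?_) i
      · simp only [Fin.cons_zero]; exact pullback.lift_snd _ _ _
      · simp only [Fin.cons_succ]; exact (pullback.lift_fst_assoc _ _ _ _).trans (hm' i)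

variable (f : X ⟶ Y) [LocallyQuasiFinite f] [LocallyOfFiniteType f] (w : X → ℤ)
  (hw : MoreMor.IsWeighting f w) (hpos : ∀ x, 0 < w x) {d : ℕ} {P : Scheme.{u}} (b : P ⟶ Y)
  (π : Fin d → (P ⟶ X))

open Classical in
/-- Tuples in which every point occurs at most as often as its weight. -/
noncomputable def multLocus : Set P :=
  {p | ∀ i, ((Finset.univ.filter fun j =>
    P.fromSpecResidueField p ≫ π j = P.fromSpecResidueField p ≫ π i).card : ℤ) ≤ w (π i p)}

include hw hpos in
lemma isClosed_multLocus (hπ : ∀ i, π i ≫ f = b) : IsClosed (multLocus w π) := by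
  classical
  rw [← isOpen_compl_iff, isOpen_iff_mem_nhds]
  intro p hp
  simp only [multLocus, Set.mem_compl_iff, Set.mem_ofPred_eq, not_forall, not_le] at hp
  obtain ⟨i, hi⟩ := hp
  set S := Finset.univ.filter fun j =>
    P.fromSpecResidueField p ≫ π j = P.fromSpecResidueField p ≫ π i with hS
  obtain ⟨V, k, v, hk, hkv, J, _, Q, -, hmem, hcov⟩ :=
    exists_pieces f (f (π i p)) {π i p} (Set.finite_singleton _) (by simp)
  obtain ⟨p', hp', hp'v⟩ := Scheme.Pullback.exists_preimage_pullback (f := b) (g := k) p v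
    (by rw [hkv, ← Scheme.Hom.comp_apply, hπ])
  let r : Fin d → (pullback b k ⟶ pullback f k) := fun j =>
    pullback.lift (pullback.fst b k ≫ π j) (pullback.snd b k)
      (by rw [Category.assoc, hπ, pullback.condition])
  have hr1 : ∀ j, r j ≫ pullback.fst f k = pullback.fst b k ≫ π j := fun j => pullback.lift_fst _ _ _
  have hr2 : ∀ j, r j ≫ pullback.snd f k = pullback.snd b k := fun j => pullback.lift_snd _ _ _
  obtain ⟨q, hq⟩ := hcov (r i p') (by rw [← Scheme.Hom.comp_apply, hr2, hp'v])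
    (by rw [Set.mem_singleton_iff, ← Scheme.Hom.comp_apply, hr1, Scheme.Hom.comp_apply, hp'])
  have := (Q q).finite
  let σ := algClosurePt p'
  have hσp : ptOf (σ ≫ pullback.fst b k) = p := by rw [ptOf_comp, ptOf_algClosurePt, hp']
  have hrS : ∀ j ∈ S, r j p' = (Q q).pt := fun j hj => by
    have he : σ ≫ r j = σ ≫ r i := by
      apply pullback.hom_ext
      · simp only [Category.assoc, hr1]
        exact ((Category.assoc _ _ _).symm.trans
          ((eqAt_iff _ hσp (π j) (π i)).mp (Finset.mem_filter.mp hj).2)).trans (Category.assoc _ _ _)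
      · simp only [Category.assoc, hr2]
    rw [← hq, ← ptOf_algClosurePt p', ← ptOf_comp, he, ptOf_comp]
  have hx : pullback.fst f k (Q q).pt = π i p := Set.mem_singleton_iff.mp (hmem q)
  obtain ⟨N, hN, hNo, hvN⟩ := eventually_nhds_iff.mp ((IsLocallyConstant.iff_eventually_eq _).mp
    (isLocallyConstant_openIntegral f w hw k (Q q).opens) v)
  let O : Set ↑(pullback b k) :=
    (⋂ j ∈ S, r j ⁻¹' ((Q q).opens : Set _)) ∩ pullback.snd b k ⁻¹' N
  have hO : IsOpen O :=
    (isOpen_biInter_finset fun j _ => (Q q).opens.2.preimage (r j).continuous).inter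
      (hNo.preimage (pullback.snd b k).continuous)
  refine Filter.mem_of_superset (((pullback.fst b k).isOpenMap _ hO).mem_nhds
    ⟨p', ⟨Set.mem_iInter₂.mpr fun j hj => by
      rw [Set.mem_preimage, hrS j hj]; exact (Q q).pt_mem, by rw [Set.mem_preimage, hp'v]; exact hvN⟩, hp'⟩) ?_
  rintro _ ⟨z, ⟨hzQ, hzN⟩, rfl⟩ hzC
  let τ := algClosurePt z
  let vb := τ ≫ pullback.snd b k
  have hvb : ptOf vb = pullback.snd b k z := by rw [ptOf_comp, ptOf_algClosurePt]
  let t : Fin d → GeomPt (pullback.snd f k) vb := fun j => ⟨τ ≫ r j, by rw [Category.assoc, hr2]⟩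
  have hI := hN _ hzN
  rw [Piece.openIntegral_self, hx, openIntegral_eq_sum (pullback.snd f k) (Q q).opens vb _ hvb,
    finsum_mem_eq_finite_toFinset_sum _ (finite_openPts _ _ vb)] at hI
  have hle : (S.card : ℤ) ≤ w (π i p) := by
    rw [← hI, Finset.card_eq_sum_card_image t S, Nat.cast_sum]
    refine (Finset.sum_le_sum (g := fun σ : GeomPt (pullback.snd f k) vb =>
      w (pullback.fst f k (ptOf σ.1))) fun σ hσ => ?_).trans
      (Finset.sum_le_sum_of_subset_of_nonneg ?_ fun σ _ _ => (hpos _).le)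
    · obtain ⟨j, hj, rfl⟩ := Finset.mem_image.mp hσ
      have hw' : pullback.fst f k (ptOf (t j).1) = π j (pullback.fst b k z) := by
        show pullback.fst f k (ptOf (τ ≫ r j)) = _
        rw [ptOf_comp, ptOf_algClosurePt, ← Scheme.Hom.comp_apply, hr1, Scheme.Hom.comp_apply]
      rw [hw']
      refine le_trans ?_ (hzC j)
      refine Int.ofNat_le.mpr (Finset.card_le_card fun l hl => ?_)
      rw [Finset.mem_filter] at hl ⊢
      refine ⟨Finset.mem_univ _, (eqAt_iff (τ ≫ pullback.fst b k) (by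
        rw [ptOf_comp, ptOf_algClosurePt]) (π l) (π j)).mpr ?_⟩
      have := congrArg (fun g => g ≫ pullback.fst f k) (congrArg Subtype.val hl.2)
      simpa [t, hr1] using this
    · intro σ hσ
      obtain ⟨j, hj, rfl⟩ := Finset.mem_image.mp hσ
      refine (Set.Finite.mem_toFinset _).mpr ?_
      show ptOf (τ ≫ r j) ∈ (Q q).opens
      rw [ptOf_comp, ptOf_algClosurePt]
      exact Set.mem_iInter₂.mp hzQ j hj
  omega

variable (hfib : ∀ y : Y, (f ⁻¹' {y}).Finite) (hmax : ∀ y : Y, MoreMor.fibreIntegral f w y ≤ d)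
  (hπ : ∀ i, π i ≫ f = b)

include hpos hfib hmax hπ in
lemma fibreIntegral_eq_of_mem_multLocus {p : P} (hp : p ∈ multLocus w π) :
    MoreMor.fibreIntegral f w (b p) = d := by
  classical
  refine le_antisymm (hmax _) ?_
  let σ := algClosurePt p
  have hσ : ptOf σ = p := ptOf_algClosurePt p
  have hvb : ptOf (σ ≫ b) = b p := by rw [ptOf_comp, hσ]
  have := finite_geomPt f (σ ≫ b) (hfib _)
  have := Fintype.ofFinite (GeomPt f (σ ≫ b))
  let t : Fin d → GeomPt f (σ ≫ b) := fun j => ⟨σ ≫ π j, by rw [Category.assoc, hπ]⟩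
  rw [fibreIntegral_eq_sum f (σ ≫ b) w hvb, finsum_eq_sum_of_fintype]
  have hd : (d : ℤ) = ∑ τ ∈ Finset.univ.image t, ((Finset.univ.filter fun j => t j = τ).card : ℤ) := by
    rw [← Nat.cast_sum, ← Finset.card_eq_sum_card_image t Finset.univ, Finset.card_univ, Fintype.card_fin]
  rw [hd]
  refine (Finset.sum_le_sum (g := fun τ : GeomPt f (σ ≫ b) => w (ptOf τ.1)) fun τ hτ => ?_).trans
    (Finset.sum_le_univ_sum_of_nonneg fun τ => (hpos _).le)
  obtain ⟨j, -, rfl⟩ := Finset.mem_image.mp hτ
  rw [show ptOf (t j).1 = π j p from (ptOf_comp σ (π j)).trans (congrArg (π j) hσ)]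
  refine le_trans (Int.ofNat_le.mpr (Finset.card_le_card fun l hl => ?_)) (hp j)
  rw [Finset.mem_filter] at hl ⊢
  exact ⟨Finset.mem_univ _, (eqAt_iff σ hσ (π l) (π j)).mpr (congrArg Subtype.val hl.2)⟩

include hpos hfib in
lemma exists_mem_multLocus (hlift : ∀ {T : Scheme.{u}} (c : T ⟶ Y) (s : Fin d → (T ⟶ X)),
    (∀ i, s i ≫ f = c) → ∃ m : T ⟶ P, m ≫ b = c ∧ ∀ i, m ≫ π i = s i) {y : Y}
    (hy : MoreMor.fibreIntegral f w y = d) : ∃ p ∈ multLocus w π, b p = y := by
  classical
  let vb := algClosurePt y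
  have := finite_geomPt f vb (hfib _)
  have := Fintype.ofFinite (GeomPt f vb)
  rw [fibreIntegral_eq_sum f vb w (ptOf_algClosurePt y), finsum_eq_sum_of_fintype] at hy
  have hcard : Fintype.card (Fin d) = Fintype.card (Σ τ : GeomPt f vb, Fin (w (ptOf τ.1)).toNat) := by
    rw [Fintype.card_fin, Fintype.card_sigma]
    simp only [Fintype.card_fin]
    apply Int.ofNat.inj
    show ((d : ℕ) : ℤ) = ((∑ τ : GeomPt f vb, (w (ptOf τ.1)).toNat : ℕ) : ℤ)
    rw [Nat.cast_sum, ← hy]
    exact Finset.sum_congr rfl fun τ _ => (Int.toNat_of_nonneg (hpos _).le).symm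
  let e := Fintype.equivOfCardEq hcard
  obtain ⟨s, hsb, hsπ⟩ := hlift vb (fun i => (e i).1.1) fun i => (e i).1.2
  refine ⟨ptOf s, fun i => ?_, by rw [← ptOf_comp, hsb, ptOf_algClosurePt]⟩
  have hw' : π i (ptOf s) = ptOf (e i).1.1 := by rw [← ptOf_comp, hsπ]
  rw [hw', ← Int.toNat_of_nonneg (hpos (ptOf (e i).1.1)).le]
  refine Int.ofNat_le.mpr (le_of_eq ?_)
  rw [← Fintype.card_fin (w (ptOf (e i).1.1)).toNat, ← Finset.card_univ]
  refine Finset.card_equiv (e.trans (Equiv.refl _)) ?_ |>.trans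
    (Finset.card_map ⟨Sigma.mk (e i).1, sigma_mk_injective⟩)
  intro j
  simp only [Finset.mem_filter, Finset.mem_univ, true_and, Finset.mem_map, Equiv.trans_apply,
    Equiv.refl_apply, Function.Embedding.coeFn_mk]
  rw [eqAt_iff s rfl (π j) (π i), hsπ, hsπ, ← Subtype.ext_iff]
  constructor
  · intro h
    generalize e j = z at h ⊢
    obtain ⟨t, a⟩ := z
    dsimp only at h
    subst h
    exact ⟨a, rfl⟩
  · rintro ⟨a, ha⟩
    rw [← ha]

include hw hpos in
/-- The locus where the integral of a positive weighting is maximal is affine. -/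
theorem isAffineOpen_max [IsAffine X] [IsAffine Y]
    (m : ℤ) (hmax : ∀ y : Y, MoreMor.fibreIntegral f w y ≤ m) (hatt : ∃ y : Y, MoreMor.fibreIntegral f w y = m) :
    ∃ hYd : IsOpen {y : ↑Y | MoreMor.fibreIntegral f w y = m},
      IsAffineOpen (⟨{y : ↑Y | MoreMor.fibreIntegral f w y = m}, hYd⟩ : Y.Opens) := by
  have hfib : ∀ y : Y, (f ⁻¹' {y}).Finite := fun y => f.finite_preimage_singleton y
  have hm : 0 ≤ m := by
    obtain ⟨y, hy⟩ := hatt
    rw [← hy]
    refine finsum_nonneg fun x => mul_nonneg (hpos _).le ?_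
    positivity
  lift m to ℕ using hm
  obtain ⟨hopen, hfinite⟩ := isFinite_over_max f w hw hpos hfib m hmax
  refine ⟨hopen, ?_⟩
  set U : Y.Opens := ⟨_, hopen⟩
  obtain ⟨P, b, π, hP, hπ, hbfin, hlift⟩ := exists_power f U m
  let I := Scheme.IdealSheafData.vanishingIdeal ⟨multLocus w π, isClosed_multLocus f w hw hpos b π hπ⟩
  have hr : Set.range I.subschemeι = multLocus w π := by
    rw [Scheme.IdealSheafData.range_subschemeι, Scheme.IdealSheafData.coe_support_vanishingIdeal]
    rfl
  have : IsAffine I.subscheme := isAffine_of_isAffineHom I.subschemeι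
  have hrange : Set.range (I.subschemeι ≫ b) = (U : Set Y) := by
    rw [show ⇑(I.subschemeι ≫ b) = b ∘ I.subschemeι from rfl, Set.range_comp, hr]
    ext y
    constructor
    · rintro ⟨p, hp, rfl⟩
      exact fibreIntegral_eq_of_mem_multLocus f w hpos b π hfib hmax hπ hp
    · exact fun hy => exists_mem_multLocus f w hpos b π hfib hlift hy
  refine isAffineOpen_of_integral_surjective (I.subschemeι ≫ b) U ?_ hrange ?_
  · rw [← hrange]
    exact isCompact_range (I.subschemeι ≫ b).continuous
  · rw [morphismRestrict_comp]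
    have h1 : IsFinite (I.subschemeι ∣_ b ⁻¹ᵁ U) :=
      IsZariskiLocalAtTarget.restrict (inferInstance : IsFinite I.subschemeι) _
    have h2 := MorphismProperty.comp_mem @IsFinite _ _ h1 hbfin
    exact (IsFinite.iff_isIntegralHom_and_locallyOfFiniteType _).mp h2 |>.1

end Groth.FlatMor2
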