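import Groth.Agent.FlatMor2.Weighting.GeomPoints

/-!
# Finite pieces of quasi-finite morphisms and their fibre integrals
-/

set_option autoImplicit false

universe u

open CategoryTheory CategoryTheory.Limits AlgebraicGeometry Topology Filter

namespace Groth.FlatMor2

variable {P V : Scheme.{u}}

/-- The fibre integral along an open of the source. -/
noncomputable def openIntegral (p : P ⟶ V) (A : P.Opens) (w : P → ℤ) (t : V) : ℤ :=
  MoreMor.fibreIntegral (A.ι ≫ p) (fun a => w (A.ι a)) t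

/-- The geometric points over a given one whose image lies in an open. -/
def openPts (p : P ⟶ V) (A : P.Opens) {Ω : Type u} [Field Ω] (vb : Spec (CommRingCat.of Ω) ⟶ V) :
    Set (GeomPt p vb) := {σ | ptOf σ.1 ∈ A}

/-- Geometric points of an open of the source. -/
noncomputable def openPtsEquiv (p : P ⟶ V) (A : P.Opens) {Ω : Type u} [Field Ω]
    (vb : Spec (CommRingCat.of Ω) ⟶ V) : GeomPt (A.ι ≫ p) vb ≃ openPts p A vb :=
  Equiv.ofBijective
    (fun σ => ⟨⟨σ.1 ≫ A.ι, by rw [Category.assoc]; exact σ.2⟩,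
      show ptOf (σ.1 ≫ A.ι) ∈ A by rw [ptOf_comp]; exact (ptOf σ.1).2⟩)
    ⟨fun σ σ' h => Subtype.ext ((cancel_mono A.ι).mp (congrArg (fun τ => τ.1.1) h)), fun σ => by
      have hr : Set.range σ.1.1 ⊆ Set.range A.ι := by
        rintro _ ⟨q, rfl⟩
        obtain rfl : q = default := Subsingleton.elim _ _
        rw [Scheme.Opens.range_ι]; exact σ.2
      refine ⟨⟨IsOpenImmersion.lift A.ι σ.1.1 hr, ?_⟩,
        Subtype.ext (Subtype.ext (IsOpenImmersion.lift_fac _ _ _))⟩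
      rw [IsOpenImmersion.lift_fac_assoc]; exact σ.1.2⟩

section

variable (p : P ⟶ V) (A : P.Opens) [IsFinite (A.ι ≫ p)] {Ω : Type u} [Field Ω] [IsAlgClosed Ω]
  (vb : Spec (CommRingCat.of Ω) ⟶ V)

lemma finite_openPts : (openPts p A vb).Finite := by
  have := finite_geomPt (A.ι ≫ p) vb ((A.ι ≫ p).finite_preimage_singleton _)
  exact Set.finite_coe_iff.mp (Finite.of_equiv _ (openPtsEquiv p A vb))

lemma openIntegral_eq_sum (w : P → ℤ) {v : V} (hv : ptOf vb = v) :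
    openIntegral p A w v = ∑ᶠ σ ∈ openPts p A vb, w (ptOf σ.1) := by
  have := finite_geomPt (A.ι ≫ p) vb ((A.ι ≫ p).finite_preimage_singleton _)
  rw [openIntegral, fibreIntegral_eq_sum (A.ι ≫ p) vb _ hv,
    ← finsum_set_coe_eq_finsum_mem (f := fun σ : GeomPt p vb => w (ptOf σ.1)) (openPts p A vb)]
  exact finsum_eq_of_bijective _ (openPtsEquiv p A vb).bijective
    fun σ => congrArg w (ptOf_comp σ.1 A.ι).symm

lemma exists_mem_openPts {x : P} (hx : x ∈ A) (hxv : p x = ptOf vb) :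
    ∃ σ ∈ openPts p A vb, ptOf σ.1 = x := by
  obtain ⟨σ, hσ⟩ := exists_geomPt_at (A.ι ≫ p) vb ⟨x, hx⟩ (by simpa using hxv)
  exact ⟨_, (openPtsEquiv p A vb σ).2, (ptOf_comp σ.1 A.ι).trans (congrArg A.ι hσ)⟩

end

/-- Base change of opens finite over the base and of their fibre integrals. -/
theorem openIntegral_baseChange {P' V' : Scheme.{u}} {p : P ⟶ V} {p' : P' ⟶ V'} {q : P' ⟶ P}
    {a : V' ⟶ V} (hq : IsPullback q p' p a) (A : P.Opens) [IsFinite (A.ι ≫ p)] :
    IsFinite ((q ⁻¹ᵁ A).ι ≫ p') ∧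
      ∀ (w : P → ℤ) (t : V'), openIntegral p' (q ⁻¹ᵁ A) (fun x => w (q x)) t = openIntegral p A w (a t) := by
  have hc : IsPullback (q ∣_ A) ((q ⁻¹ᵁ A).ι ≫ p') (A.ι ≫ p) a :=
    (isPullback_morphismRestrict q A).paste_vert hq
  refine ⟨MorphismProperty.of_isPullback hc ‹_›, fun w t => ?_⟩
  rw [openIntegral, openIntegral, ← fibreIntegral_baseChange hc (fun x => w (A.ι x)) t
    ((A.ι ≫ p).finite_preimage_singleton _)]
  congr 1
  funext x
  exact congrArg w (congr($(morphismRestrict_ι q A) x)).symm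

lemma exists_preimage_of_isPullback {X Y S Z : Scheme.{u}} {f : X ⟶ S} {g : Y ⟶ S} {a : Z ⟶ X}
    {b : Z ⟶ Y} (h : IsPullback a b f g) {x : X} {y : Y} (e : f x = g y) :
    ∃ z, a z = x ∧ b z = y := by
  obtain ⟨z, h1, h2⟩ := Scheme.Pullback.exists_preimage_pullback x y e
  refine ⟨h.isoPullback.inv z, ?_, ?_⟩
  · rw [← Scheme.Hom.comp_apply, h.isoPullback_inv_fst]; exact h1
  · rw [← Scheme.Hom.comp_apply, h.isoPullback_inv_snd]; exact h2

/-- Lifts of a field-valued point at `z` are determined by their image in the base. -/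
def GeomInjAt (π : P ⟶ V) (z : P) : Prop :=
  ∀ (Ω : Type u) [Field Ω] (σ σ' : Spec (CommRingCat.of Ω) ⟶ P),
    ptOf σ = z → ptOf σ' = z → σ ≫ π = σ' ≫ π → σ = σ'

lemma geomInjAt_of_isPurelyInseparable (π : P ⟶ V) (z : P)
    (h : letI := (π.residueFieldMap z).hom.toAlgebra
      IsPurelyInseparable (V.residueField (π z)) (P.residueField z)) : GeomInjAt π z := by
  intro Ω _ σ σ' hσ hσ' hπ
  obtain ⟨φ, rfl⟩ := exists_factor_at σ hσ
  obtain ⟨φ', rfl⟩ := exists_factor_at σ' hσ'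
  rw [Category.assoc, Category.assoc, ← Scheme.Hom.SpecMap_residueFieldMap_fromSpecResidueField,
    ← Spec.map_comp_assoc, ← Spec.map_comp_assoc] at hπ
  have e := Flatmor4.specMap_fromSpecResidueField_inj hπ
  let := (π.residueFieldMap z).hom.toAlgebra
  let : Algebra (V.residueField (π z)) Ω := (π.residueFieldMap z ≫ φ).hom.toAlgebra
  let a : P.residueField z →ₐ[V.residueField (π z)] Ω := { φ.hom with commutes' := fun _ => rfl }
  let b : P.residueField z →ₐ[V.residueField (π z)] Ω :=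
    { φ'.hom with commutes' := fun c => (ConcreteCategory.congr_hom e c).symm }
  rw [show φ = φ' from CommRingCat.hom_ext (congrArg AlgHom.toRingHom (Subsingleton.elim a b))]

lemma GeomInjAt.baseChange {P' V' : Scheme.{u}} {p : P ⟶ V} {p' : P' ⟶ V'} {q : P' ⟶ P}
    {a : V' ⟶ V} (hq : IsPullback q p' p a) {z' : P'} (h : GeomInjAt p (q z')) :
    GeomInjAt p' z' := fun Ω _ σ σ' hσ hσ' e => hq.hom_ext
  (h Ω (σ ≫ q) (σ' ≫ q) (by rw [ptOf_comp, hσ]) (by rw [ptOf_comp, hσ'])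
    (by rw [Category.assoc, Category.assoc, hq.w, reassoc_of% e])) e

section Eventually

variable (p : P ⟶ V) (v : V)

/-- An open with closed structure map lies in another open near `v` if it does so over `v`. -/
lemma eventually_subset (A B : P.Opens) [IsFinite (A.ι ≫ p)]
    (h : ∀ x ∈ A, p x = v → x ∈ B) : ∀ᶠ t in 𝓝 v, ∀ x ∈ A, p x = t → x ∈ B := by
  have hc : IsClosed ((A.ι ≫ p) '' (A.ι ⁻¹' (B : Set P))ᶜ) :=
    (A.ι ≫ p).isClosedMap _ (B.2.preimage A.ι.continuous).isClosed_compl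
  have hv : v ∉ (A.ι ≫ p) '' (A.ι ⁻¹' (B : Set P))ᶜ := by
    rintro ⟨x, hx, hxv⟩
    exact hx (h _ x.2 (by simpa using hxv))
  filter_upwards [hc.isOpen_compl.mem_nhds hv] with t ht x hx hxt
  by_contra hxB
  exact ht ⟨⟨x, hx⟩, hxB, by simpa using hxt⟩

lemma eventually_disjoint (A C B : P.Opens) [IsFinite (A.ι ≫ p)] [IsFinite (C.ι ≫ p)]
    [IsSeparated (B.ι ≫ p)] (hA : ∀ x ∈ A, p x = v → x ∈ B) (hC : ∀ x ∈ C, p x = v → x ∈ B)
    (h : ∀ x, p x = v → x ∈ A → x ∉ C) :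
    ∀ᶠ t in 𝓝 v, ∀ x, p x = t → x ∈ A → x ∉ C := by
  obtain ⟨N, hN, hNo, hvN⟩ := eventually_nhds_iff.mp
    ((eventually_subset p v A B hA).and (eventually_subset p v C B hC))
  let N' : V.Opens := ⟨N, hNo⟩
  let i := (p ⁻¹ᵁ N').ι
  have hq : IsPullback i (p ∣_ N') p N'.ι := (isPullback_morphismRestrict p N').flip
  have := (openIntegral_baseChange hq A).1
  have := (openIntegral_baseChange hq C).1
  have : IsSeparated ((i ⁻¹ᵁ B).ι ≫ p ∣_ N') :=
    MorphismProperty.of_isPullback ((isPullback_morphismRestrict i B).paste_vert hq) ‹_›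
  have hAB : i ⁻¹ᵁ A ≤ i ⁻¹ᵁ B := fun x hx => (hN _ x.2).1 _ hx rfl
  have hCB : i ⁻¹ᵁ C ≤ i ⁻¹ᵁ B := fun x hx => (hN _ x.2).2 _ hx rfl
  have : IsFinite ((p ⁻¹ᵁ N').toScheme.homOfLE hAB) := by
    have : IsFinite ((p ⁻¹ᵁ N').toScheme.homOfLE hAB ≫ (i ⁻¹ᵁ B).ι ≫ p ∣_ N') := by
      rw [Scheme.homOfLE_ι_assoc]; infer_instance
    exact IsFinite.of_comp _ ((i ⁻¹ᵁ B).ι ≫ p ∣_ N')
  have hS := (((p ⁻¹ᵁ N').toScheme.homOfLE hAB).isClosedMap.isClosed_range).preimage
    ((p ⁻¹ᵁ N').toScheme.homOfLE hCB).continuous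
  have hT := ((i ⁻¹ᵁ C).ι ≫ p ∣_ N').isClosedMap _ hS
  have hvT : (⟨v, hvN⟩ : N') ∉ ((i ⁻¹ᵁ C).ι ≫ p ∣_ N') ''
      (((p ⁻¹ᵁ N').toScheme.homOfLE hCB) ⁻¹' Set.range ((p ⁻¹ᵁ N').toScheme.homOfLE hAB)) := by
    rintro ⟨x, ⟨y, hy⟩, hxv⟩
    have hxy : y.1 = x.1 := by
      have := congr((i ⁻¹ᵁ B).ι $hy)
      rwa [← Scheme.Hom.comp_apply, Scheme.homOfLE_ι, ← Scheme.Hom.comp_apply,
        Scheme.homOfLE_ι] at this
    refine h _ ?_ y.2 (show i y.1 ∈ C from hxy ▸ x.2)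
    have := congr(N'.ι $hxv)
    rw [Scheme.Hom.comp_apply, ← Scheme.Hom.comp_apply, morphismRestrict_ι] at this
    simpa [hxy, i] using this
  have hopen := N'.2.isOpenMap_subtype_val _ hT.isOpen_compl
  filter_upwards [hopen.mem_nhds ⟨_, hvT, rfl⟩] with t ht x hxt hxA hxC
  obtain ⟨⟨t, htN⟩, ht', rfl⟩ := ht
  refine ht' ⟨⟨⟨x, show p x ∈ N' from hxt.symm ▸ htN⟩, hxC⟩, ⟨⟨⟨x, show p x ∈ N' from hxt.symm ▸ htN⟩, hxA⟩, ?_⟩, ?_⟩
  · refine (i ⁻¹ᵁ B).ι.isOpenEmbedding.injective ?_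
    rw [← Scheme.Hom.comp_apply, Scheme.homOfLE_ι, ← Scheme.Hom.comp_apply, Scheme.homOfLE_ι]
    rfl
  · refine N'.ι.isOpenEmbedding.injective ?_
    rw [Scheme.Hom.comp_apply, ← Scheme.Hom.comp_apply, morphismRestrict_ι]
    exact hxt

/-- Near `v`, an open finite over the base is the disjoint union of given finite pieces. -/
lemma eventually_partition (U : P.Opens) [IsFinite (U.ι ≫ p)] {J : Type} [Finite J]
    (A : J → P.Opens) (hfin : ∀ j, IsFinite ((A j).ι ≫ p))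
    (hsub : ∀ j, ∀ x ∈ A j, p x = v → x ∈ U) (hcov : ∀ x ∈ U, p x = v → ∃ j, x ∈ A j)
    (hdisj : ∀ i j, i ≠ j → ∀ x, p x = v → x ∈ A i → x ∉ A j) :
    ∀ᶠ t in 𝓝 v, ∀ x, p x = t →
      ((x ∈ U ↔ ∃ j, x ∈ A j) ∧ ∀ i j, x ∈ A i → x ∈ A j → i = j) := by
  have h1 := eventually_subset p v U (⨆ j, A j)
    fun x hx hxv => TopologicalSpace.Opens.mem_iSup.mpr (hcov x hx hxv)
  have h2 : ∀ᶠ t in 𝓝 v, ∀ j, ∀ x ∈ A j, p x = t → x ∈ U :=
    Filter.eventually_all.mpr fun j => have := hfin j; eventually_subset p v (A j) U (hsub j)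
  have h3 : ∀ᶠ t in 𝓝 v, ∀ i j, i ≠ j → ∀ x, p x = t → x ∈ A i → x ∉ A j :=
    Filter.eventually_all.mpr fun i => Filter.eventually_all.mpr fun j => by
      by_cases hij : i = j
      · exact .of_forall fun t h => absurd hij h
      have := hfin i; have := hfin j
      exact (eventually_disjoint p v (A i) (A j) U (hsub i) (hsub j) (hdisj i j hij)).mono
        fun t h _ => h
  filter_upwards [h1, h2, h3] with t t1 t2 t3 x hx
  refine ⟨⟨fun h => TopologicalSpace.Opens.mem_iSup.mp (t1 x h hx), fun ⟨j, hj⟩ => t2 j x hj hx⟩,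
    fun i j hi hj => ?_⟩
  by_contra hij
  exact t3 i j hij x hx hi hj

lemma eventually_openIntegral_eq (U : P.Opens) [IsFinite (U.ι ≫ p)] {J : Type} [Finite J]
    (A : J → P.Opens) (hfin : ∀ j, IsFinite ((A j).ι ≫ p))
    (hsub : ∀ j, ∀ x ∈ A j, p x = v → x ∈ U) (hcov : ∀ x ∈ U, p x = v → ∃ j, x ∈ A j)
    (hdisj : ∀ i j, i ≠ j → ∀ x, p x = v → x ∈ A i → x ∉ A j) (w : P → ℤ) :
    ∀ᶠ t in 𝓝 v, openIntegral p U w t = ∑ᶠ j, openIntegral p (A j) w t := by
  filter_upwards [eventually_partition p v U A hfin hsub hcov hdisj] with t ht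
  let vb := algClosurePt t
  have hU : openPts p U vb = ⋃ j, openPts p (A j) vb := by
    ext σ
    simp only [openPts, Set.mem_iUnion, Set.mem_ofPred_eq]
    exact (ht _ (σ.apply_ptOf.trans (ptOf_algClosurePt t))).1
  rw [openIntegral_eq_sum p U vb w (ptOf_algClosurePt t), hU,
    finsum_mem_iUnion (t := fun j => openPts p (A j) vb) (fun i j hij => Set.disjoint_left.mpr fun σ hi hj =>
      hij ((ht _ (σ.apply_ptOf.trans (ptOf_algClosurePt t))).2 i j hi hj))
      (fun j => have := hfin j; finite_openPts p (A j) vb)]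
  exact finsum_congr fun j =>
    (have := hfin j; openIntegral_eq_sum p (A j) vb w (ptOf_algClosurePt t)).symm

end Eventually

section Piece

variable {X Y : Scheme.{u}}

/-- The comparison of two base changes of `f`. -/
noncomputable def pullMap (f : X ⟶ Y) {V V' : Scheme.{u}} {k : V ⟶ Y} {k' : V' ⟶ Y} (a : V' ⟶ V)
    (h : a ≫ k = k') : pullback f k' ⟶ pullback f k :=
  pullback.lift (pullback.fst f k') (pullback.snd f k' ≫ a)
    (by rw [Category.assoc, h, pullback.condition])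

lemma isPullback_pullMap (f : X ⟶ Y) {V V' : Scheme.{u}} {k : V ⟶ Y} {k' : V' ⟶ Y} (a : V' ⟶ V)
    (h : a ≫ k = k') :
    IsPullback (pullMap f a h) (pullback.snd f k') (pullback.snd f k) a := by
  refine .of_right (t := IsPullback.of_hasPullback f k) ?_ (pullback.lift_snd _ _ _)
  rw [pullMap, pullback.lift_fst, h]
  exact IsPullback.of_hasPullback f k'

lemma fst_pullMap (f : X ⟶ Y) {V V' : Scheme.{u}} {k : V ⟶ Y} {k' : V' ⟶ Y} (a : V' ⟶ V)
    (h : a ≫ k = k') (x : ↑(pullback f k')) :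
    pullback.fst f k (pullMap f a h x) = pullback.fst f k' x := by
  rw [← Scheme.Hom.comp_apply, pullMap, pullback.lift_fst]

lemma snd_pullMap (f : X ⟶ Y) {V V' : Scheme.{u}} {k : V ⟶ Y} {k' : V' ⟶ Y} (a : V' ⟶ V)
    (h : a ≫ k = k') (x : ↑(pullback f k')) :
    pullback.snd f k (pullMap f a h x) = a (pullback.snd f k' x) := by
  rw [← Scheme.Hom.comp_apply, pullMap, pullback.lift_snd, Scheme.Hom.comp_apply]

/-- An open of the base change finite over the base with a single point over `v`, whose residue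
field extension there is purely inseparable. -/
structure Piece (f : X ⟶ Y) {V : Scheme.{u}} (k : V ⟶ Y) (v : V) where
  /-- The open. -/
  opens : (pullback f k).Opens
  finite : IsFinite (opens.ι ≫ pullback.snd f k)
  /-- The point. -/
  pt : ↑(pullback f k)
  pt_mem : pt ∈ opens
  snd_pt : pullback.snd f k pt = v
  eq_pt : ∀ x ∈ opens, pullback.snd f k x = v → x = pt
  inj : GeomInjAt (pullback.snd f k) pt

variable {f : X ⟶ Y} {V : Scheme.{u}} {k : V ⟶ Y} {v : V}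

lemma Piece.openIntegral_self (Q : Piece f k v) (w : ↑(pullback f k) → ℤ) :
    openIntegral (pullback.snd f k) Q.opens w v = w Q.pt := by
  have := Q.finite
  let vb := algClosurePt v
  obtain ⟨σ, hσ, hσz⟩ := exists_mem_openPts (pullback.snd f k) Q.opens vb Q.pt_mem
    (Q.snd_pt.trans (ptOf_algClosurePt v).symm)
  have : openPts (pullback.snd f k) Q.opens vb = {σ} := by
    refine Set.eq_singleton_iff_unique_mem.mpr ⟨hσ, fun τ hτ => Subtype.ext (Q.inj _ _ _ ?_ hσz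
      (τ.2.trans σ.2.symm))⟩
    exact Q.eq_pt _ hτ (τ.apply_ptOf.trans (ptOf_algClosurePt v))
  rw [openIntegral_eq_sum _ Q.opens vb w (ptOf_algClosurePt v), this, finsum_mem_singleton, hσz]

/-- Base change of a piece. -/
lemma Piece.exists_baseChange (Q : Piece f k v) {V' : Scheme.{u}} {k' : V' ⟶ Y} (a : V' ⟶ V)
    (h : a ≫ k = k') (v' : V') (hv : a v' = v) :
    ∃ Q' : Piece f k' v', Q'.opens = pullMap f a h ⁻¹ᵁ Q.opens ∧ pullMap f a h Q'.pt = Q.pt := by
  have hq := isPullback_pullMap f a h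
  obtain ⟨z, hz, hzv⟩ := exists_preimage_of_isPullback hq (Q.snd_pt.trans hv.symm)
  have := Q.finite
  have hfin := (openIntegral_baseChange hq Q.opens).1
  have hinj : ∀ x, pullMap f a h x = Q.pt → GeomInjAt (pullback.snd f k') x :=
    fun x hx => GeomInjAt.baseChange hq (hx.symm ▸ Q.inj)
  refine ⟨⟨pullMap f a h ⁻¹ᵁ Q.opens, hfin, z, show _ ∈ Q.opens from hz.symm ▸ Q.pt_mem, hzv,
    fun x hx hxv => ?_, hinj z hz⟩, rfl, hz⟩
  have hxz : pullMap f a h x = Q.pt := Q.eq_pt _ hx (by rw [snd_pullMap, hxv, hv])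
  let vb := algClosurePt v'
  obtain ⟨σ, -, hσ⟩ := exists_mem_openPts (pullback.snd f k') (pullMap f a h ⁻¹ᵁ Q.opens) vb hx
    (hxv.trans (ptOf_algClosurePt v').symm)
  obtain ⟨τ, -, hτ⟩ := exists_mem_openPts (pullback.snd f k') (pullMap f a h ⁻¹ᵁ Q.opens) vb
    (x := z) (show _ ∈ Q.opens from hz.symm ▸ Q.pt_mem) (hzv.trans (ptOf_algClosurePt v').symm)
  have : σ.1 ≫ pullMap f a h = τ.1 ≫ pullMap f a h := Q.inj _ _ _
    (by rw [ptOf_comp, hσ, hxz]) (by rw [ptOf_comp, hτ, hz])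
    (by rw [Category.assoc, Category.assoc, hq.w, reassoc_of% σ.2, reassoc_of% τ.2])
  rw [← hσ, ← hτ, hq.hom_ext this (σ.2.trans τ.2.symm)]

/-- Splitting at a point of the base. -/
theorem exists_pieces (f : X ⟶ Y) [LocallyQuasiFinite f] [LocallyOfFiniteType f] (y : Y) (s : Set X)
    (hs : s.Finite) (hsy : ∀ x ∈ s, f x = y) :
    ∃ (V : Scheme.{u}) (k : V ⟶ Y) (v : V), Etale k ∧ k v = y ∧ ∃ (J : Type) (_ : Finite J)
      (Q : J → Piece f k v), Function.Injective (fun j => (Q j).pt) ∧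
        (∀ j, pullback.fst f k (Q j).pt ∈ s) ∧
        ∀ x, pullback.snd f k x = v → pullback.fst f k x ∈ s → ∃ j, x = (Q j).pt := by
  have := hs.to_subtype
  let e := Finite.equivFin s
  obtain ⟨V, k, v, hk, hkv, J, hJ, W, z, hW, hinj, hcov⟩ := Flatmor4.exists_split_purelyInseparable
    f y (fun i => (e.symm i).1) (Subtype.val_injective.comp e.symm.injective)
    (fun i => hsy _ (e.symm i).2) (fun i => f.quasiFiniteAt _)
  refine ⟨V, k, v, hk, hkv, Σ i, J i, inferInstance, fun j => ⟨W j.1 j.2, (hW j.1 j.2).2.1,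
    z j.1 j.2, (hW j.1 j.2).1, (hW j.1 j.2).2.2.1, (hW j.1 j.2).2.2.2.1,
    geomInjAt_of_isPurelyInseparable _ _ (hW j.1 j.2).2.2.2.2.1.2⟩, fun a b h => ?_, fun j => ?_,
    fun x hx hxs => ?_⟩
  · exact Sigma.ext (hinj _ _ _ _ h).1 (hinj _ _ _ _ h).2
  · exact (hW j.1 j.2).2.2.2.2.2 ▸ (e.symm j.1).2
  · obtain ⟨j, hj⟩ := hcov x (e ⟨_, hxs⟩) hx (congrArg Subtype.val (e.symm_apply_apply ⟨_, hxs⟩)).symm
    exact ⟨⟨_, j⟩, hj⟩

/-- Splitting over a point of an arbitrary scheme over the base; the pieces come from étale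
schemes over the base, so weightings have locally constant integrals on them. -/
theorem exists_pieces_over (f : X ⟶ Y) [LocallyQuasiFinite f] [LocallyOfFiniteType f] {V : Scheme.{u}}
    (k : V ⟶ Y) (v : V) (s : Set X) (hs : s.Finite) (hsy : ∀ x ∈ s, f x = k v) :
    ∃ (V' : Scheme.{u}) (a : V' ⟶ V) (v' : V'), Etale a ∧ a v' = v ∧ ∃ (J : Type) (_ : Finite J)
      (Q : J → Piece f (a ≫ k) v'), Function.Injective (fun j => (Q j).pt) ∧
        (∀ j, pullback.fst f (a ≫ k) (Q j).pt ∈ s) ∧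
        (∀ x, pullback.snd f (a ≫ k) x = v' → pullback.fst f (a ≫ k) x ∈ s → ∃ j, x = (Q j).pt) ∧
        ∀ w : X → ℤ, MoreMor.IsWeighting f w → ∀ j, IsLocallyConstant (openIntegral
          (pullback.snd f (a ≫ k)) (Q j).opens (fun x => w (pullback.fst f (a ≫ k) x))) := by
  obtain ⟨V₀, k₀, v₀, hk₀, hv₀, J, _, Q₀, hinj, hmem, hcov⟩ := exists_pieces f (k v) s hs hsy
  obtain ⟨v', hv', hv'₀⟩ := Scheme.Pullback.exists_preimage_pullback (f := k) (g := k₀) v v₀ hv₀.symm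
  have h : pullback.snd k k₀ ≫ k₀ = pullback.fst k k₀ ≫ k := pullback.condition.symm
  choose Q hQo hQp using fun j => (Q₀ j).exists_baseChange (pullback.snd k k₀) h v' hv'₀
  refine ⟨pullback k k₀, pullback.fst k k₀, v', inferInstance, hv', J, inferInstance, Q,
    fun i j e => hinj ?_, fun j => ?_, fun x hx hxs => ?_, fun w hw j => ?_⟩
  · dsimp only at e ⊢
    rw [← hQp i, ← hQp j, e]
  · rw [← fst_pullMap f _ h, hQp]; exact hmem j
  · obtain ⟨j, hj⟩ := hcov (pullMap f _ h x) (by rw [snd_pullMap, hx, hv'₀])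
      (by rw [fst_pullMap]; exact hxs)
    refine ⟨j, (Q j).eq_pt x ?_ hx⟩
    rw [hQo]
    exact (show pullMap f _ h x ∈ (Q₀ j).opens from hj ▸ (Q₀ j).pt_mem)
  · have := (Q₀ j).finite
    have h1 := IsLocallyConstant.comp_continuous (hw V₀ k₀ (Q₀ j).opens (Q₀ j).finite)
      (pullback.snd k k₀).continuous
    convert h1 using 1
    funext t
    rw [hQo, Function.comp_apply]
    refine Eq.trans ?_ ((openIntegral_baseChange (isPullback_pullMap f _ h) (Q₀ j).opens).2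
      (fun x => w (pullback.fst f k₀ x)) t)
    congr 1
    funext x
    rw [fst_pullMap]

end Piece

end Groth.FlatMor2
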