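import Groth.Agent.FlatMor2.Weighting.MaxLocusAffine
import Groth.Agent.FlatMor2.Chevalley.Approx
import Groth.Agent.PropsBasic2.Reduced

/-!
# The stratification by the fibre integral
-/

set_option autoImplicit false
set_option linter.style.haveILetI false

universe u

open CategoryTheory CategoryTheory.Limits AlgebraicGeometry TopologicalSpace

namespace Groth.FlatMor2

variable {X Y : Scheme.{u}} (f : X ⟶ Y) [LocallyQuasiFinite f] [LocallyOfFiniteType f] [QuasiCompact f]
  (w : X → ℤ) (hw : MoreMor.IsWeighting f w) (hpos : ∀ x, 0 < w x)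

include hw hpos in
/-- The locus where the fibre integral is maximal is affine, over a separated base. -/
theorem isAffine_max_of_surjective [IsAffine X] [Y.IsSeparated] [Surjective f] (m : ℤ)
    (hmax : ∀ y : Y, MoreMor.fibreIntegral f w y ≤ m) :
    ∃ hU : IsOpen {y : ↑Y | MoreMor.fibreIntegral f w y = m},
      IsAffineOpen (⟨{y : ↑Y | MoreMor.fibreIntegral f w y = m}, hU⟩ : Y.Opens) ∧
        IsAffineHom (Scheme.Opens.ι (⟨{y : ↑Y | MoreMor.fibreIntegral f w y = m}, hU⟩ : Y.Opens)) := by
  have hf : IsAffineHom f := by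
    have : IsAffineHom (f ≫ terminal.from Y) := by rw [terminal.comp_from]; infer_instance
    exact MorphismProperty.of_postcomp (W := @IsAffineHom) (W' := @IsSeparated) f (terminal.from Y)
      inferInstance this
  have hsep : IsSeparated f := inferInstance
  have hfib : ∀ y : Y, (f ⁻¹' {y}).Finite := fun y => f.finite_preimage_singleton y
  obtain ⟨hopen, hfinite⟩ := isFinite_over_max f w hw hpos hfib m hmax
  refine ⟨hopen, ?_⟩
  set U : Y.Opens := ⟨_, hopen⟩
  have hloc : ∀ V : Y.Opens, IsAffineOpen V → IsAffineOpen (U.ι ⁻¹ᵁ V) := fun V hV => by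
    have : IsAffine V.toScheme := hV
    let fV := f ∣_ V
    have hc : IsPullback (f ⁻¹ᵁ V).ι fV f V.ι := (isPullback_morphismRestrict f V).flip
    have : IsAffine (f ⁻¹ᵁ V).toScheme := hV.preimage f
    have : LocallyQuasiFinite fV := MorphismProperty.of_isPullback hc ‹_›
    have : LocallyOfFiniteType fV := MorphismProperty.of_isPullback hc ‹_›
    have : QuasiCompact fV := MorphismProperty.of_isPullback hc ‹_›
    have hint : ∀ v : V.toScheme, MoreMor.fibreIntegral fV (w ∘ ⇑(f ⁻¹ᵁ V).ι) v =
        MoreMor.fibreIntegral f w (V.ι v) := fun v => fibreIntegral_baseChange hc w v (hfib _)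
    suffices h : IsAffineOpen (V.ι ⁻¹ᵁ U) by
      have h1 := h.image_of_isOpenImmersion V.ι
      rw [← Scheme.Hom.isAffineOpen_iff_of_isOpenImmersion U.ι]
      convert h1 using 1
      rw [Scheme.Hom.image_preimage_eq_opensRange_inf, Scheme.Hom.image_preimage_eq_opensRange_inf,
        Scheme.Opens.opensRange_ι, Scheme.Opens.opensRange_ι, inf_comm]
    by_cases hatt : ∃ v : V.toScheme, MoreMor.fibreIntegral fV (w ∘ ⇑(f ⁻¹ᵁ V).ι) v = m
    · obtain ⟨hV', haff⟩ := isAffineOpen_max fV _ (isWeighting_baseChange f w hw fV _ _ hc)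
        (fun x => hpos _) m (fun v => (hint v).le.trans (hmax _)) hatt
      convert haff using 1
      refine Opens.ext (Set.ext fun v => ?_)
      show MoreMor.fibreIntegral f w (V.ι v) = m ↔ MoreMor.fibreIntegral fV _ v = m
      rw [hint]
    · push Not at hatt
      have : V.ι ⁻¹ᵁ U = ⊥ := eq_bot_iff.mpr fun v hv => hatt v ((hint v).trans hv)
      rw [this]
      exact isAffineOpen_bot _
  have : IsAffineHom U.ι := ⟨fun V hV => hloc V hV⟩
  have : IsAffine (f ⁻¹ᵁ U).toScheme := by
    have : IsAffineHom (f ⁻¹ᵁ U).ι :=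
      MorphismProperty.of_isPullback (P := @IsAffineHom) (isPullback_morphismRestrict f U) ‹_›
    exact isAffine_of_isAffineHom (f ⁻¹ᵁ U).ι
  refine ⟨?_, ‹_›⟩
  have hs : Surjective (f ∣_ U) := IsZariskiLocalAtTarget.restrict ‹Surjective f› _
  have : IsFinite (f ∣_ U) := hfinite
  have : CompactSpace U.toScheme :=
    ⟨(f ∣_ U).surjective.range_eq ▸ isCompact_range (f ∣_ U).continuous⟩
  have : QuasiSeparatedSpace Y := HasAffineProperty.iff_of_isAffine.mp (inferInstance : QuasiSeparated (terminal.from Y))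
  have : QuasiSeparatedSpace U.toScheme := quasiSeparatedSpace_of_quasiSeparated U.ι
  have : IsIntegralHom (f ∣_ U) := ((IsFinite.iff_isIntegralHom_and_locallyOfFiniteType _).mp ‹_›).1
  exact Chevalley.isAffine_of_integral_surjective (f ∣_ U)

include hw hpos in
/-- The fibre integral stratifies a separated target of a surjection from an affine scheme into affines. -/
theorem hasAffineStratification_fibreIntegral [IsAffine X] [Y.IsSeparated] [Surjective f] [Nonempty Y]
    (k : ℕ) (hk : (Set.range (MoreMor.fibreIntegral f w)).ncard = k)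
    (hkfin : (Set.range (MoreMor.fibreIntegral f w)).Finite) :
    MoreMor.HasAffineStratification Y (k - 1) := by
  classical
  have hf : IsAffineHom f := by
    have : IsAffineHom (f ≫ terminal.from Y) := by rw [terminal.comp_from]; infer_instance
    exact MorphismProperty.of_postcomp (W := @IsAffineHom) (W' := @IsSeparated) f (terminal.from Y)
      inferInstance this
  have hsep : IsSeparated f := inferInstance
  have hfib : ∀ y : Y, (f ⁻¹' {y}).Finite := fun y => f.finite_preimage_singleton y
  have hpos' : 0 < k := hk ▸ (Set.ncard_pos hkfin).mpr (Set.range_nonempty _)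
  have hcard : hkfin.toFinset.card = k - 1 + 1 := by
    rw [← Set.ncard_eq_toFinset_card _ hkfin, hk]; omega
  let e := hkfin.toFinset.orderIsoOfFin hcard
  let s : Y → Fin (k - 1 + 1) := fun y => e.symm ⟨_, hkfin.mem_toFinset.mpr ⟨y, rfl⟩⟩
  have hle : ∀ y i, s y ≤ i ↔ MoreMor.fibreIntegral f w y ≤ (e i).1 := fun y i => by
    rw [← e.le_iff_le, e.apply_symm_apply]; rfl
  have heq : ∀ y i, s y = i ↔ MoreMor.fibreIntegral f w y = (e i).1 := fun y i => by
    rw [← e.injective.eq_iff, e.apply_symm_apply]; exact Subtype.ext_iff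
  have hclosed : ∀ i, IsClosed {y : Y | s y ≤ i} := fun i => by
    simp only [hle]
    exact (lowerSemicontinuous_fibreIntegral f w hw hpos hfib).isClosed_preimage _
  refine ⟨s, hclosed, fun i => ?_⟩
  let T : Closeds Y := ⟨_, hclosed i⟩
  let I := Scheme.IdealSheafData.vanishingIdeal T
  let W := I.subscheme
  let ι := I.subschemeι
  have hr : Set.range ι = {y : Y | s y ≤ i} := by
    rw [I.range_subschemeι, Scheme.IdealSheafData.coe_support_vanishingIdeal]; rfl
  let fW := pullback.snd f ι
  have hc : IsPullback (pullback.fst f ι) fW f ι := IsPullback.of_hasPullback f ι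
  have : IsAffine (pullback f ι) := isAffine_of_isAffineHom (pullback.fst f ι)
  have : IsSeparated (ι ≫ terminal.from Y) := inferInstance
  have : W.IsSeparated := ⟨terminal.comp_from ι ▸ ‹IsSeparated (ι ≫ terminal.from Y)›⟩
  have hint : ∀ t : W, MoreMor.fibreIntegral fW (w ∘ ⇑(pullback.fst f ι)) t =
      MoreMor.fibreIntegral f w (ι t) := fun t => fibreIntegral_baseChange hc w t (hfib _)
  obtain ⟨hU, haff, haffι⟩ := isAffine_max_of_surjective fW _
    (isWeighting_baseChange f w hw fW _ _ hc) (fun x => hpos _) (e i).1 fun t =>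
      (hint t).le.trans ((hle _ i).mp (hr.le ⟨t, rfl⟩))
  set U : W.Opens := ⟨_, hU⟩
  refine ⟨U.toScheme, U.ι ≫ ι, inferInstance, haff, inferInstance, ?_⟩
  rw [show ⇑(U.ι ≫ ι) = ι ∘ U.ι from rfl, Set.range_comp, Scheme.Opens.range_ι]
  ext y
  refine ⟨?_, fun hy => ?_⟩
  · rintro ⟨t, ht, rfl⟩
    exact (heq _ i).mpr ((hint t).symm.trans ht)
  · obtain ⟨t, rfl⟩ := hr.ge (show s y ≤ i from (hy : s y = i).le)
    exact ⟨t, (hint t).trans ((heq _ i).mp hy), rfl⟩

end Groth.FlatMor2
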